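import Cfsg.Agent.RuRec.NAutReps
import Cfsg.Agent.RuRec.DataLocal
import Mathlib.Combinatorics.SimpleGraph.Basic

/-!
# Groups that look like the Rudvalis group

A group of permutations of 4060 points with a graph whose neighbourhood of a point carries the
action of the stabiliser on 1755 lines.
-/

set_option autoImplicit false
set_option Elab.async false

namespace CfsgLib.RuRec

open CfsgLib.Ru

universe u

/-- A group of permutations with the local structure of the Rudvalis group. -/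
structure Cand (Ω : Type u) where
  /-- The group. -/
  G : Subgroup (Equiv.Perm Ω)
  /-- The graph. -/
  Γ : SimpleGraph Ω
  /-- The base point. -/
  a : Ω
  /-- The stabiliser of the base point. -/
  L : RK →* G
  /-- The neighbours of the base point. -/
  pt : Fin 1755 → Ω
  L_inj : Function.Injective L
  L_a : ∀ k : RK, L k • a = a
  L_surj : ∀ g : G, g • a = a → ∃ k, L k = g
  inv : ∀ (g : G) (x y : Ω), Γ.Adj (g • x) (g • y) ↔ Γ.Adj x y
  trans : ∀ x : Ω, ∃ g : G, g • a = x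
  pt_inj : Function.Injective pt
  adj_a : ∀ z, Γ.Adj a z ↔ ∃ i, pt i = z
  pt_smul : ∀ (k : RK) (i : Fin 1755), L k • pt i = pt (res k i)
  adj_pt : ∀ i j : Fin 1755, Γ.Adj (pt i) (pt j) ↔ R i j = true
  far : ∀ z z', z ≠ a → ¬ Γ.Adj a z → z' ≠ a → ¬ Γ.Adj a z' → ∃ k, L k • z = z'
  common : ∀ z, z ≠ a → ¬ Γ.Adj a z → {i | Γ.Adj z (pt i)}.ncard = 780

namespace Cand

variable {Ω : Type u} (C : Cand Ω)

theorem a_adj_pt (i : Fin 1755) : C.Γ.Adj C.a (C.pt i) := (C.adj_a _).2 ⟨i, rfl⟩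

theorem pt_ne_a (i : Fin 1755) : C.pt i ≠ C.a := fun e => C.Γ.ne_of_adj (C.a_adj_pt i) e.symm

theorem adj_act (g : C.G) (x y : Ω) : C.Γ.Adj (g • x) y ↔ C.Γ.Adj x (g⁻¹ • y) := by
  rw [← C.inv g x (g⁻¹ • y), smul_inv_smul]

theorem L_pt_adj (k : RK) (z : Ω) (i : Fin 1755) :
    C.Γ.Adj (C.L k • z) (C.pt i) ↔ C.Γ.Adj z (C.pt (res k⁻¹ i)) := by
  rw [C.adj_act, ← map_inv, C.pt_smul]

/-- A point that is neither the base point nor adjacent to it. -/
def Far (z : Ω) : Prop := z ≠ C.a ∧ ¬ C.Γ.Adj C.a z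

theorem far_L (k : RK) {z : Ω} (h : C.Far z) : C.Far (C.L k • z) := by
  refine ⟨fun e => h.1 ?_, fun e => h.2 ?_⟩
  · rw [← C.L_a k] at e
    exact MulAction.injective _ e
  · rw [← C.L_a k] at e
    exact (C.inv _ _ _).1 e

/-- An element exchanging the base point with the neighbour `0`. -/
theorem exists_swap : ∃ t : C.G, t • C.a = C.pt p0 ∧ t • C.pt p0 = C.a := by
  obtain ⟨g, hg⟩ := C.trans (C.pt p0)
  have h : C.Γ.Adj C.a (g⁻¹ • C.a) := by
    rw [C.Γ.adj_comm, ← C.inv g, smul_inv_smul, hg]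
    exact C.a_adj_pt p0
  obtain ⟨i, hi⟩ := (C.adj_a _).1 h
  obtain ⟨k, hk⟩ := exists_kw_orbit i
  refine ⟨g * C.L k, ?_, ?_⟩
  · rw [mul_smul, C.L_a, hg]
  · rw [mul_smul, C.pt_smul, hk, hi, smul_inv_smul]

/-- An element exchanging the base point with the neighbour `0`, and permuting their common
neighbours as `π` does. -/
structure Swap (π : Equiv.Perm (Fin 730)) (t : C.G) : Prop where
  ta : t • C.a = C.pt p0
  tp : t • C.pt p0 = C.a
  tn : ∀ u : Fin 730, t • C.pt ⟨u + 1, by omega⟩ = C.pt ⟨(π u).1 + 1, by omega⟩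

theorem exists_perm {t : C.G} (ta : t • C.a = C.pt p0) (tp : t • C.pt p0 = C.a) :
    ∃ π : NAut, C.Swap π.1 t := by
  classical
  have h : ∀ u : Fin 730, ∃ v : Fin 730, t • C.pt ⟨u + 1, by omega⟩ = C.pt ⟨v + 1, by omega⟩ := by
    intro u
    have h1 : C.Γ.Adj C.a (t • C.pt ⟨u + 1, by omega⟩) := by
      rw [← tp, C.inv, C.adj_pt]
      exact R_zero_succ u.2
    have h2 : C.Γ.Adj (C.pt p0) (t • C.pt ⟨u + 1, by omega⟩) := by
      rw [← ta, C.inv]
      exact C.a_adj_pt _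
    obtain ⟨i, hi⟩ := (C.adj_a _).1 h1
    rw [← hi, C.adj_pt] at h2
    have := (R_zero i.2).1 h2
    refine ⟨⟨i.1 - 1, by omega⟩, hi.symm.trans (congrArg C.pt (Fin.ext ?_))⟩
    show i.1 = i.1 - 1 + 1
    omega
  choose f hf using h
  have hinj : Function.Injective f := fun u v e => by
    have e' : C.pt ⟨(f u).1 + 1, by omega⟩ = C.pt ⟨(f v).1 + 1, by omega⟩ :=
      congrArg C.pt (Fin.ext (congrArg (fun x : Fin 730 => x.1 + 1) e))
    have := C.pt_inj (MulAction.injective t ((hf u).trans (e'.trans (hf v).symm)))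
    exact Fin.ext (Nat.add_right_cancel (congrArg Fin.val this))
  let π : Equiv.Perm (Fin 730) := Equiv.ofBijective f (Finite.injective_iff_bijective.1 hinj)
  refine ⟨⟨π, fun u w => ?_⟩, ta, tp, hf⟩
  refine Bool.eq_iff_iff.2 ?_
  rw [← RN_eq (π u).2 (π w).2, ← RN_eq u.2 w.2,
    ← C.adj_pt ⟨(π u).1 + 1, by omega⟩ ⟨(π w).1 + 1, by omega⟩,
    ← C.adj_pt ⟨u + 1, by omega⟩ ⟨w + 1, by omega⟩]
  show C.Γ.Adj (C.pt ⟨(f u).1 + 1, _⟩) (C.pt ⟨(f w).1 + 1, _⟩) ↔ _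
  rw [← hf, ← hf, C.inv]

theorem swap_PN {t : C.G} {π : NAut} (h : C.Swap π.1 t) (g : stA) :
    C.Swap (π * PN g).1 (t * C.L g.1) := by
  refine ⟨?_, ?_, fun u => ?_⟩
  · rw [mul_smul, C.L_a, h.ta]
  · rw [mul_smul, C.pt_smul, mem_stA.1 g.2, h.tp]
  · rw [mul_smul, C.pt_smul, PN_spec, h.tn]
    rfl

/-- An outer position goes to a far point adjacent to the neighbour `0`. -/
theorem swap_outer {t : C.G} {π : Equiv.Perm (Fin 730)} (h : C.Swap π t) {o : Fin 1755}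
    (ho : 731 ≤ o.1) : C.Far (t • C.pt o) ∧ C.Γ.Adj (t • C.pt o) (C.pt p0) := by
  refine ⟨⟨fun e => ?_, fun e => ?_⟩, ?_⟩
  · rw [← h.tp] at e
    have := C.pt_inj (MulAction.injective t e)
    rw [this] at ho
    exact absurd ho (by decide)
  · rw [← h.tp, C.inv, C.adj_pt] at e
    have := (R_zero o.2).1 e
    omega
  · rw [C.Γ.adj_comm, ← h.ta, C.inv]
    exact C.a_adj_pt o

theorem exists_outer {t : C.G} {π : Equiv.Perm (Fin 730)} (h : C.Swap π t) {z : Ω}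
    (hz : C.Far z) (hz0 : C.Γ.Adj z (C.pt p0)) :
    ∃ o : Fin 1755, 731 ≤ o.1 ∧ t • C.pt o = z := by
  have h1 : C.Γ.Adj C.a (t⁻¹ • z) := by
    rw [← C.inv t, h.ta, smul_inv_smul]
    exact hz0.symm
  obtain ⟨o, ho⟩ := (C.adj_a _).1 h1
  have e : t • C.pt o = z := by rw [ho, smul_inv_smul]
  refine ⟨o, ?_, e⟩
  by_contra hlt
  by_cases h0 : o.1 = 0
  · rw [show o = p0 from Fin.ext h0, h.tp] at e
    exact hz.1 e.symm
  · apply hz.2
    rw [← e, ← h.tp, C.inv, C.adj_pt]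
    exact (R_zero o.2).2 ⟨by omega, by omega⟩

/-- The adjacency of a far point `t • pt o` to the common neighbours. -/
theorem swap_row {t : C.G} {π : Equiv.Perm (Fin 730)} (h : C.Swap π t) {o : Fin 1755}
    (ho : 731 ≤ o.1) (u : Fin 730) :
    C.Γ.Adj (t • C.pt o) (C.pt ⟨(π u).1 + 1, by omega⟩) ↔ bitB (rowOf o) u = true := by
  rw [← h.tn, C.inv, C.adj_pt, R_row o.2 (by omega) u.2]

theorem swap_row' {t : C.G} {π : NAut} (h : C.Swap π.1 t) {o : Fin 1755} (ho : 731 ≤ o.1)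
    (u : Fin 730) :
    C.Γ.Adj (t • C.pt o) (C.pt ⟨u + 1, by omega⟩) ↔ bitB (rowOf o) ((π⁻¹).1 u) = true := by
  have h' := C.swap_row h ho ((π⁻¹).1 u)
  have e : π.1 ((π⁻¹).1 u) = u := π.1.apply_symm_apply u
  simp only [e] at h'
  exact h'

end Cand

end CfsgLib.RuRec
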