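import Cfsg.Agent.RuRec.Cand

/-!
# The exchange acts on the common neighbours as the basic symmetry

Sixty-three cosets are excluded: an element of the stabiliser moves a far point to one with an
impossible pattern.
-/

set_option autoImplicit false
set_option Elab.async false

namespace CfsgLib.RuRec

open CfsgLib.Ru

/-- The inverse of a representative, on numbers. -/
noncomputable def rInv (i u : ℕ) : ℕ :=
  bif Nat.blt i 32 then emN i (pT r0InvTab u)
  else pT sigInvTab (emN (Nat.sub i 32) (pT r0InvTab u))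

theorem rInv_spec {i : ℕ} (hi : i < 64) (u : Fin 730) :
    ((repN i)⁻¹.1 u).1 = rInv i u := by
  have e : (repN i)⁻¹ = (sig ^ (i / 32))⁻¹ * (em (i % 32) * r0⁻¹) := by
    rw [repN, mul_inv_rev, mul_inv_rev, em_inv]
  rw [e, rInv]
  rcases Nat.lt_or_ge i 32 with h | h
  · rw [show Nat.blt i 32 = true from Nat.ble_eq_true_of_le h, cond_true,
      show i / 32 = 0 by omega, show i % 32 = i by omega, pow_zero, inv_one, one_mul]
    rfl
  · rw [blt_false h, cond_false, show i / 32 = 1 by omega, show i % 32 = i - 32 by omega, pow_one]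
    rfl

/-- The word of an exclusion. -/
noncomputable def badW (i : ℕ) : List ℕ :=
  (badWords.getD ((badTests.getD (Nat.sub i 1) []).headD 0) ([], 0)).1

/-- The moved neighbour of an exclusion. -/
noncomputable def badU (i : ℕ) : ℕ :=
  (badWords.getD ((badTests.getD (Nat.sub i 1) []).headD 0) ([], 0)).2

/-- The tests of an exclusion. -/
noncomputable def badD (i : ℕ) : List ℕ := (badTests.getD (Nat.sub i 1) []).tail

/-- The check of an exclusion. -/
noncomputable def okBad (i : ℕ) : Bool :=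
  force (rowOf 731) fun r1 =>
    Nat.blt (badU i) 730 && Nat.beq (wi (badW i) (Nat.add (badU i) 1)) 0 &&
      bitB r1 (rInv i (badU i)) &&
      (badD i).all (fun d => Nat.blt d 730 && Nat.blt 0 (wi (badW i) (Nat.add d 1)) &&
        Nat.blt (wi (badW i) (Nat.add d 1)) 731) &&
      allR 1024 (fun k => force (rowOf (Nat.add 731 k)) fun row => (badD i).any fun d =>
        !beqB (bitB row (rInv i (Nat.sub (wi (badW i) (Nat.add d 1)) 1))) (bitB r1 (rInv i d))) 10 0

theorem okBad_A : allR 32 (fun i => okBad (Nat.add i 1)) 5 0 = true := by decide +kernel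

theorem okBad_B : allR 31 (fun i => okBad (Nat.add i 33)) 5 0 = true := by decide +kernel

theorem okBad_all {i : ℕ} (h1 : 1 ≤ i) (hi : i < 64) : okBad i = true := by
  rcases Nat.lt_or_ge i 33 with h | h
  · have := allR_zero okBad_A (by norm_num) (i - 1) (by omega)
    rwa [show Nat.add (i - 1) 1 = i from Nat.sub_add_cancel h1] at this
  · have := allR_zero okBad_B (by norm_num) (i - 33) (by omega)
    rwa [show Nat.add (i - 33) 33 = i from Nat.sub_add_cancel h] at this

namespace Cand

variable {Ω : Type*} (C : Cand Ω)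

theorem swap_excluded {t : C.G} {i : ℕ} (hi : i < 64) (h : C.Swap (repN i).1 t) : i = 0 := by
  by_contra hne
  have hb := okBad_all (by omega) hi
  simp only [okBad, force_eq, Bool.and_eq_true] at hb
  obtain ⟨⟨⟨⟨h1, h2⟩, h3⟩, h4⟩, h5⟩ := hb
  have hu : badU i < 730 := Nat.le_of_ble_eq_true h1
  set x := t • C.pt ⟨731, by norm_num⟩ with hx
  obtain ⟨hfar, -⟩ := C.swap_outer h (o := ⟨731, by norm_num⟩) (le_refl _)
  set k := kw (badW i) with hk
  have hk0 : res k ⟨badU i + 1, by omega⟩ = p0 :=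
    Fin.ext ((res_kw _ _).trans (Nat.eq_of_beq_eq_true h2))
  -- a neighbour `u + 1` of `x`, and adjacency in general
  have hadj : ∀ u : Fin 730,
      C.Γ.Adj x (C.pt ⟨u + 1, by omega⟩) ↔ bitB (rowOf 731) (rInv i u) = true := by
    intro u
    rw [← rInv_spec hi]
    exact C.swap_row' h (o := ⟨731, by norm_num⟩) (le_refl _) u
  have hgx0 : C.Γ.Adj (C.L k • x) (C.pt p0) := by
    rw [← hk0, ← C.pt_smul, C.inv]
    exact (hadj ⟨_, hu⟩).2 h3
  obtain ⟨o, ho, eo⟩ := C.exists_outer h (C.far_L k hfar) hgx0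
  have hd := allR_zero h5 (by norm_num) (o.1 - 731) (by omega)
  rw [show Nat.add 731 (o.1 - 731) = o.1 from Nat.add_sub_cancel' ho,
    List.any_eq_true] at hd
  obtain ⟨d, hd1, hd2⟩ := hd
  simp only [List.all_eq_true, Bool.and_eq_true] at h4
  obtain ⟨⟨g1, g2⟩, g3⟩ := h4 d hd1
  have hd730 : d < 730 := Nat.le_of_ble_eq_true g1
  obtain ⟨v, hv⟩ : ∃ v, v = wi (badW i) (d + 1) := ⟨_, rfl⟩
  have hv1 : 0 < v := hv ▸ Nat.le_of_ble_eq_true g2
  have hv2 : v < 731 := hv ▸ Nat.le_of_ble_eq_true g3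
  have ev : res k ⟨d + 1, by omega⟩ = ⟨(⟨v - 1, by omega⟩ : Fin 730).1 + 1, by omega⟩ := by
    refine Fin.ext ((res_kw _ _).trans ?_)
    show wi (badW i) (d + 1) = v - 1 + 1
    omega
  have key : bitB (rowOf o) (rInv i (v - 1)) = true ↔ bitB (rowOf 731) (rInv i d) = true := by
    rw [← hadj ⟨d, hd730⟩, ← C.inv (C.L k), C.pt_smul, ev, ← eo]
    have := C.swap_row' h ho ⟨v - 1, by omega⟩
    rw [rInv_spec hi] at this
    exact this.symm
  rw [show Nat.sub (wi (badW i) (Nat.add d 1)) 1 = v - 1 from by rw [hv]; rfl,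
    Bool.eq_iff_iff.2 key] at hd2
  revert hd2
  cases bitB (rowOf 731) (rInv i d) <;> simp [beqB]

/-- An exchange inducing the basic symmetry. -/
theorem exists_r0 : ∃ t : C.G, C.Swap r0.1 t := by
  obtain ⟨t, ta, tp⟩ := C.exists_swap
  obtain ⟨π, hπ⟩ := C.exists_perm ta tp
  obtain ⟨i, hi, g, rfl⟩ := exists_rep π
  have h := C.swap_PN hπ g⁻¹
  rw [map_inv, mul_inv_cancel_right] at h
  obtain rfl := C.swap_excluded hi h
  rw [repN, Nat.zero_mod, Nat.zero_div, pow_zero, em_zero, mul_one, mul_one] at h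
  exact ⟨_, h⟩

end Cand

end CfsgLib.RuRec
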