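import Cfsg.Agent.RuRec.Uniqueness

/-!
# The Rudvalis group has the local structure
-/

set_option autoImplicit false
set_option Elab.async false

namespace CfsgLib.RuRec

open CfsgLib.Ru Cfsg.Spor

/-- The line of a position in the long suborbit. -/
noncomputable def farL (k : ℕ) : ℕ := Nat.div (nodeV oneNode k) 4

theorem farL_lt {k : ℕ} (hk : k < 2304) : farL k < 4060 := by
  have := (nodePt oneTree_ok.2 (by norm_num) ⟨k, hk⟩).2
  show nodeV oneNode k / 4 < 4060
  change nodeV oneNode k < 16240 at this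
  omega

theorem exists_far_smul {k : ℕ} (hk : k < 2304) :
    ∃ g : RK, g.1 • mkLn (farL 0) = mkLn (farL k) := by
  obtain ⟨g, hg, e⟩ := node_orbit good_one oneTree_ok.1 oneTree_ok.2 (by norm_num) roots.1
    (L := T1) (fun g _ => one_mem g) ⟨k, hk⟩
  refine ⟨⟨im g, MulAction.mem_stabilizer_iff.2 ((im_smul _ _).trans (fix_ln0 (T1_le hg)))⟩, ?_⟩
  have hl : ∀ j < 2304, ∀ p : Pt, p.1 = nodeV oneNode j → mkLn (farL j) = lineOf p := by
    intro j hj p hp
    refine Fin.ext ?_
    rw [mkLn_val (farL_lt hj)]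
    show farL j = p.1 / 4
    rw [hp]
    rfl
  rw [hl 0 (by norm_num) (refP 1) roots.1.symm, hl k hk (nodePt oneTree_ok.2 (by norm_num) ⟨k, hk⟩) rfl, ← e]
  show im g • lineOf (refP 1) = _
  rw [im_smul, smul_lineOf]

theorem far_line {l : Ln} (h0 : l ≠ ln0) (h1 : ¬ Adj ln0 l) : ∃ k < 2304, l = mkLn (farL k) := by
  rw [adj_ln0, not_lt] at h1
  obtain ⟨h2, h3, -, -⟩ := code_spec l.2
  have hne : code l.1 ≠ 4059 := by
    intro e
    refine h0 ?_
    rw [e, show codeLine 4059 = 0 by decide +kernel] at h3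
    exact Fin.ext (h3.symm.trans ln0_val.symm)
  refine ⟨code l.1 - 1755, by omega, Fin.ext ?_⟩
  rw [mkLn_val (farL_lt (by omega))]
  refine h3.symm.trans ?_
  rw [codeLine, blt_false h1, cond_false,
    show Nat.blt (code l.1) 4059 = true from Nat.ble_eq_true_of_le (by omega), cond_true]
  rfl

theorem far_count : ((List.range 1755).filter fun i => adjN (farL 0) (oL i)).length = 780 := by
  decide +kernel

theorem common_far (l : Ln) (h0 : l ≠ ln0) (h1 : ¬ Adj ln0 l) :
    {i : Fin 1755 | Adj l (oLine i)}.ncard = 780 := by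
  classical
  obtain ⟨k, hk, rfl⟩ := far_line h0 h1
  obtain ⟨g, hg⟩ := exists_far_smul hk
  have e : {i : Fin 1755 | Adj (mkLn (farL k)) (oLine i)} =
      res g '' {i | Adj (mkLn (farL 0)) (oLine i)} := by
    ext i
    constructor
    · intro hi
      refine ⟨(res g).symm i, ?_, Equiv.apply_symm_apply _ _⟩
      rw [Set.mem_ofPred_eq, ← adj_smul g.1, hg, ← oLine_res, Equiv.apply_symm_apply]
      exact hi
    · rintro ⟨j, hj, rfl⟩
      rw [Set.mem_ofPred_eq, oLine_res, ← hg, adj_smul]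
      exact hj
  rw [e, Set.ncard_image_of_injective _ (res g).injective]
  refine Eq.trans ?_ far_count
  rw [← List.toFinset_card_of_nodup (List.nodup_range.filter _), ← Set.ncard_coe_finset,
    ← Set.ncard_image_of_injective _ Fin.val_injective]
  congr 1
  ext i
  simp only [Set.mem_image, Set.mem_ofPred_eq, List.coe_toFinset, List.mem_filter, List.mem_range]
  constructor
  · rintro ⟨j, hj, rfl⟩
    refine ⟨j.2, ?_⟩
    rwa [Adj, mkLn_val (farL_lt (by norm_num)), oLine_val j.2] at hj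
  · rintro ⟨hi, h⟩
    refine ⟨⟨i, hi⟩, ?_, rfl⟩
    rwa [Adj, mkLn_val (farL_lt (by norm_num)), oLine_val hi]

/-- The graph on the lines. -/
def lineGraph : SimpleGraph Ln where
  Adj := Adj
  symm := ⟨fun _ _ h => adj_symm h⟩
  loopless := ⟨adj_irrefl⟩

/-- The model. -/
noncomputable def modelCand : Cand Ln where
  G := RL
  Γ := lineGraph
  a := ln0
  L := (MulAction.stabilizer RL ln0).subtype
  pt := fun i => oLine i
  L_inj := Subtype.val_injective
  L_a k := MulAction.mem_stabilizer_iff.1 k.2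
  L_surj g hg := ⟨⟨g, MulAction.mem_stabilizer_iff.2 hg⟩, rfl⟩
  inv := adj_smul
  trans x := MulAction.exists_smul_eq RL ln0 x
  pt_inj i j h := Fin.ext (oLine_inj i.2 j.2 h)
  adj_a z := by
    show Adj ln0 z ↔ _
    rw [adj_ln0]
    exact ⟨fun h => ⟨⟨oIdx z.1, oIdx_lt h⟩, oLine_oIdx h⟩, fun ⟨i, e⟩ => e ▸ oLine_code i.2⟩
  pt_smul k i := (oLine_res k i).symm
  adj_pt i j := (R_iff i.2 j.2).symm
  far := fun z z' h0 h1 h0' h1' => by
    obtain ⟨k, hk, rfl⟩ := far_line h0 h1
    obtain ⟨k', hk', rfl⟩ := far_line h0' h1'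
    obtain ⟨g, hg⟩ := exists_far_smul hk
    obtain ⟨g', hg'⟩ := exists_far_smul hk'
    refine ⟨g' * g⁻¹, ?_⟩
    show (g' * g⁻¹ : RK).1 • _ = _
    rw [Subgroup.coe_mul, mul_smul, ← hg, Subgroup.coe_inv, inv_smul_smul, hg']
  common := common_far

/-- Every far line has a common neighbour with the first one. -/
noncomputable def okWit (k : ℕ) : Bool :=
  force (ext witTab 11 2047 k) fun i =>
    Nat.blt i 1755 && adjN (farL 0) (oL i) && adjN (farL k) (oL i)

theorem okWit_all : allR 2304 okWit 12 0 = true := by decide +kernel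

theorem common_prop : CommonProp := by
  intro k
  have hw := modelCand.w_far
  obtain ⟨j, hj, ej⟩ := far_line hw.1 hw.2
  obtain ⟨g, hg⟩ := exists_far_smul hj
  have hwk := modelCand.far_L (k⁻¹) hw
  obtain ⟨j', hj', ej'⟩ := far_line hwk.1 hwk.2
  -- the second point, moved with the first to the base far line
  have hmv := modelCand.far_L g⁻¹ hwk
  obtain ⟨m, hm, em⟩ := far_line hmv.1 hmv.2
  have h := allR_zero okWit_all (by norm_num) m hm
  rw [okWit, force_eq] at h
  simp only [Bool.and_eq_true] at h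
  obtain ⟨⟨h1, h2⟩, h3⟩ := h
  set i : Fin 1755 := ⟨ext witTab 11 2047 m, Nat.le_of_ble_eq_true h1⟩
  have a1 : Adj (mkLn (farL 0)) (oLine i) := by
    rw [Adj, mkLn_val (farL_lt (by norm_num)), oLine_val i.2]
    exact h2
  have a2 : Adj (mkLn (farL m)) (oLine i) := by
    rw [Adj, mkLn_val (farL_lt hm), oLine_val i.2]
    exact h3
  refine ⟨res g i, (modelCand.adj_w _).1 ?_, (modelCand.adj_w _).1 ?_⟩
  · show Adj modelCand.w (oLine (res g i))
    rw [ej, oLine_res, ← hg, adj_smul]
    exact a1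
  · show Adj modelCand.w (oLine (res k (res g i)))
    rw [oLine_res, oLine_res, ← adj_smul k.1⁻¹, inv_smul_smul, ← adj_smul g.1⁻¹, inv_smul_smul]
    rw [← em] at a2
    exact a2

end CfsgLib.RuRec
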