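import Cfsg.Agent.RuRec.SubgroupClass

/-!
# The graph on 730 points has at most `640 * 64 * 32` automorphisms
-/

set_option autoImplicit false
set_option Elab.async false
set_option linter.style.haveILetI false

namespace CfsgLib.RuRec

open CfsgLib.Ru

/-- Colours with one point individualised. -/
noncomputable def split1 (tbl p z : ℕ) : ℕ :=
  Nat.add (Nat.mul 2 (cT tbl z)) (bif Nat.beq z p then 1 else 0)

theorem round1 : allR 730 (okRound (split1 colTab0 bx) colTab1 keyTab1 colNum1) 10 0 = true := by
  decide +kernel

theorem round2 : allR 730 (okRound (cT colTab1) colTab2 keyTab2 colNum2) 10 0 = true := by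
  decide +kernel

theorem round3 : allR 730 (okRound (cT colTab2) colTab3 keyTab3 colNum3) 10 0 = true := by
  decide +kernel

theorem round4 : allR 730 (okRound (split1 colTab3 bY) colTab4 keyTab4 colNum4) 10 0 = true := by
  decide +kernel

theorem round5 : allR 730 (okRound (cT colTab4) colTab5 keyTab5 colNum5) 10 0 = true := by
  decide +kernel

theorem round6 : allR 730 (okRound (cT colTab5) colTab6 keyTab6 colNum6) 10 0 = true := by
  decide +kernel

theorem monos : (okMono keyTab1 colNum1 && okMono keyTab2 colNum2 && okMono keyTab3 colNum3 &&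
    okMono keyTab4 colNum4 && okMono keyTab5 colNum5 && okMono keyTab6 colNum6) = true := by
  decide +kernel

theorem split1_inv {tbl p : ℕ} {π : Equiv.Perm (Fin 730)} (hp : ∀ z : Fin 730, z.1 = p → π z = z)
    (h : ∀ z : Fin 730, cT tbl (π z) = cT tbl z) (z : Fin 730) :
    split1 tbl p (π z) = split1 tbl p z := by
  rw [split1, split1, h]
  by_cases hz : z.1 = p
  · rw [hp z hz]
  · rw [show Nat.beq z p = false from Bool.eq_false_iff.2 fun e => hz (Nat.eq_of_beq_eq_true e),
      show Nat.beq (π z) p = false from Bool.eq_false_iff.2 fun e => hz (by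
        have e' := Nat.eq_of_beq_eq_true e
        have := hp (π z) e'
        rw [π.injective this] at e'
        exact e')]

/-- The first individualised point. -/
def px : Fin 730 := ⟨bx, by decide⟩

/-- The second individualised point. -/
def py : Fin 730 := ⟨bY, by decide⟩

theorem col3_inv {π : Equiv.Perm (Fin 730)} (hπ : π ∈ NAut) (hx : π px = px) (z : Fin 730) :
    cT colTab3 (π z) = cT colTab3 z := by
  have h := monos
  simp only [Bool.and_eq_true] at h
  have h1 := round_inv (pc := split1 colTab0 bx) (by decide) round1 h.1.1.1.1.1 hπ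
    (split1_inv (fun z hz => by rw [show z = px from Fin.ext hz]; exact hx) (col0_inv hπ))
  have h2 := round_inv (pc := cT colTab1) (by decide) round2 h.1.1.1.1.2 hπ h1
  exact round_inv (pc := cT colTab2) (by decide) round3 h.1.1.1.2 hπ h2 z

theorem col6_inv {π : Equiv.Perm (Fin 730)} (hπ : π ∈ NAut) (hx : π px = px) (hy : π py = py)
    (z : Fin 730) : cT colTab6 (π z) = cT colTab6 z := by
  have h := monos
  simp only [Bool.and_eq_true] at h
  have h4 := round_inv (pc := split1 colTab3 bY) (by decide) round4 h.1.1.2 hπ
    (split1_inv (fun z hz => by rw [show z = py from Fin.ext hz]; exact hy) (col3_inv hπ hx))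
  have h5 := round_inv (pc := cT colTab4) (by decide) round5 h.1.2 hπ h4
  exact round_inv (pc := cT colTab5) (by decide) round6 h.2 hπ h5 z

/-- The point of a last colour. -/
noncomputable def repC (z : ℕ) : ℕ := ext colRep 10 1023 (cT colTab6 z)

theorem repC_check : allR 730 (fun z => Nat.beq z (repC z) ||
    (Nat.blt z 10 && Nat.beq (twN z) (repC z))) 10 0 = true := by decide +kernel

theorem fix_or_twin {π : Equiv.Perm (Fin 730)} (hπ : π ∈ NAut) (hx : π px = px) (hy : π py = py)
    (z : Fin 730) : (π z).1 = z.1 ∨ (z.1 < 10 ∧ (π z).1 = twN z) := by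
  have e : repC (π z) = repC z := by rw [repC, repC, col6_inv hπ hx hy]
  have spec : ∀ y : Fin 730, y.1 = repC y ∨ (y.1 < 10 ∧ twN y = repC y) := fun y => by
    have h := allR_zero repC_check (by norm_num) y.1 y.2
    simp only [Bool.or_eq_true, Bool.and_eq_true] at h
    exact h.imp Nat.eq_of_beq_eq_true
      fun h => ⟨Nat.le_of_ble_eq_true h.1, Nat.eq_of_beq_eq_true h.2⟩
  rcases spec z with h1 | ⟨h1, h1'⟩ <;> rcases spec (π z) with h2 | ⟨h2, h2'⟩
  · exact Or.inl (h2.trans (e.trans h1.symm))
  · have h3 : twN (π z) = z := h2'.trans (e.trans h1.symm)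
    refine Or.inr ⟨(lt_ten hπ z).1 h2, ?_⟩
    rw [← (twin_checks.2.1 _ h2).2.2.1, h3]
  · exact Or.inr ⟨h1, h2.trans (e.trans h1'.symm)⟩
  · refine Or.inl ?_
    have h3 : twN (π z) = twN z := h2'.trans (e.trans h1'.symm)
    rw [← (twin_checks.2.1 _ h2).2.2.1, h3, (twin_checks.2.1 _ h1).2.2.1]

theorem class_sizes :
    ((List.range 730).filter fun z => Nat.beq (cT colTab0 z) (cT colTab0 bx)).length = 640 ∧
    ((List.range 730).filter fun z => Nat.beq (cT colTab3 z) (cT colTab3 bY)).length = 64 := by
  decide +kernel

theorem orbit_le {G : Type*} [Group G] [MulAction G (Fin 730)] (x : Fin 730) (c : ℕ → ℕ)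
    (n : ℕ) (hn : ((List.range 730).filter fun z => Nat.beq (c z) (c x)).length = n)
    (h : ∀ g : G, c (g • x : Fin 730) = c x) :
    Nat.card G ≤ n * Nat.card (MulAction.stabilizer G x) := by
  classical
  rw [← Subgroup.card_mul_index (MulAction.stabilizer G x), MulAction.index_stabilizer, mul_comm]
  refine Nat.mul_le_mul_right _ ?_
  rw [← hn, ← List.toFinset_card_of_nodup (List.nodup_range.filter _), ← Set.ncard_coe_finset,
    ← Set.ncard_image_of_injective (MulAction.orbit G x) Fin.val_injective]
  refine Set.ncard_le_ncard ?_ (Finset.finite_toSet _)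
  rintro _ ⟨_, ⟨g, rfl⟩, rfl⟩
  rw [Finset.mem_coe, List.mem_toFinset, List.mem_filter, List.mem_range]
  exact ⟨Fin.is_lt _, by rw [h g]; exact Nat.beq_refl _⟩

/-- The bound. -/
theorem card_NAut_le : Nat.card NAut ≤ 1310720 := by
  have h1 := orbit_le (G := NAut) px (cT colTab0) 640 class_sizes.1 fun g => col0_inv g.2 px
  set H := MulAction.stabilizer NAut px with hH
  have h2 := orbit_le (G := H) py (cT colTab3) 64 class_sizes.2
    fun g => col3_inv g.1.2 g.2 py
  set K := MulAction.stabilizer H py with hK
  have h3 : Nat.card K ≤ 32 := by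
    let f : K → Fin 5 → Bool := fun g a =>
      decide ((g.1.1.1 ⟨fstN a, by have := (pair_checks.2.1 a a.2).1; omega⟩).1 = fstN a)
    have hf : Function.Injective f := by
      intro g g' e
      have hπ := g.1.1.2
      have hσ := g'.1.1.2
      have hgx : g.1.1.1 px = px := g.1.2
      have hgy : g.1.1.1 py = py := g.2
      have hgx' : g'.1.1.1 px = px := g'.1.2
      have hgy' : g'.1.1.1 py = py := g'.2
      refine Subtype.ext (Subtype.ext (Subtype.ext (Equiv.ext fun z => Fin.ext ?_)))
      rcases fix_or_twin hπ hgx hgy z with a | ⟨hz, a⟩ <;>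
        rcases fix_or_twin hσ hgx' hgy' z with b | ⟨hz', b⟩
      · exact a.trans b.symm
      · exfalso
        have hpz := pair_checks.1 z hz'
        have hfst := (pair_checks.2.1 _ hpz.1).1
        have he := congrFun e ⟨pidN z, hpz.1⟩
        simp only [f, decide_eq_decide] at he
        rcases hpz.2.1 with hs | hs
        · simp only [hs, Fin.eta] at he
          exact (twin_checks.2.1 z hz').2.1 (b.symm.trans (he.1 a))
        · simp only [hs] at he
          have e1 := twin_inv hπ z hz'
          have e2 := twin_inv hσ z hz'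
          rw [a] at e1
          rw [b] at e2
          replace e2 := e2.trans (twin_checks.2.1 z hz').2.2.1
          exact (twin_checks.2.1 z hz').2.1 (e2.symm.trans (he.1 e1)).symm
      · exfalso
        have hpz := pair_checks.1 z hz
        have hfst := (pair_checks.2.1 _ hpz.1).1
        have he := congrFun e ⟨pidN z, hpz.1⟩
        simp only [f, decide_eq_decide] at he
        rcases hpz.2.1 with hs | hs
        · simp only [hs, Fin.eta] at he
          exact (twin_checks.2.1 z hz).2.1 (a.symm.trans (he.2 b))
        · simp only [hs] at he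
          have e1 := twin_inv hπ z hz
          have e2 := twin_inv hσ z hz
          rw [b] at e2
          rw [a] at e1
          replace e1 := e1.trans (twin_checks.2.1 z hz).2.2.1
          exact (twin_checks.2.1 z hz).2.1 (e1.symm.trans (he.2 e2)).symm
      · exact a.trans b.symm
    have := Nat.card_le_card_of_injective f hf
    rwa [Nat.card_fun, Nat.card_fin, Nat.card_eq_fintype_card (α := Bool), Fintype.card_bool] at this
  calc Nat.card NAut ≤ 640 * Nat.card H := h1
    _ ≤ 640 * (64 * Nat.card K) := Nat.mul_le_mul_left _ h2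
    _ ≤ 640 * (64 * 32) := Nat.mul_le_mul_left _ (Nat.mul_le_mul_left _ h3)
    _ = 1310720 := by norm_num

end CfsgLib.RuRec
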