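import Cfsg.Agent.RuRec.Octagon
import Cfsg.Agent.ReeF4.MultElems
import Cfsg.Agent.PMinSocle.TitsGen

/-!
# `²F₄(2)` is the stabiliser of a line in the Rudvalis group

The orbit of 1755 row vectors of `²F₄(2)` is permuted as the stabiliser permutes its 1755 lines.
-/

set_option autoImplicit false
set_option Elab.async false
set_option linter.style.haveILetI false

namespace CfsgLib.RuRec

open Cfsg.Lie CfsgLib.ReeF4 CfsgLib.ReeF4.Mult CfsgLib.Chevalley
open CfsgLib.ReeF4.Two (vec act)
open CfsgLib.Ru (ext allR allR_zero)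
open scoped MatrixGroups commutatorElement

local instance : Fact (Nat.card (ZMod 2) = 2) := ⟨Nat.card_zmod 2⟩

/-- The twisted group. -/
abbrev T2 : Type := TG (ZMod 2)

/-- A vector of the orbit. -/
noncomputable def vN (i : ℕ) : ℕ := ext vecTab 52 4503599627370495 i

/-- A point by rank. -/
noncomputable def srt (r : ℕ) : ℕ := ext sortTab 11 2047 r

/-- The rank of a point. -/
noncomputable def rnk (i : ℕ) : ℕ := ext rankTab 11 2047 i

/-- The check of injectivity. -/
noncomputable def okSort (r : ℕ) : Bool :=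
  Nat.blt (rnk r) 1755 && Nat.beq (srt (rnk r)) r &&
    (Nat.beq r 1754 || Nat.blt (vN (srt r)) (vN (srt (Nat.add r 1))))

theorem okSort_all : allR 1755 okSort 11 0 = true := by decide +kernel

theorem vN_lt (i : ℕ) : vN i < 2 ^ 52 :=
  lt_of_le_of_lt Nat.and_le_right (by norm_num)

theorem vN_inj {i j : ℕ} (hi : i < 1755) (hj : j < 1755) (h : vN i = vN j) : i = j := by
  have spec : ∀ r < 1755, rnk r < 1755 ∧ srt (rnk r) = r ∧
      (r = 1754 ∨ vN (srt r) < vN (srt (r + 1))) := fun r hr => by
    have hc := allR_zero okSort_all (by norm_num) r hr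
    simp only [okSort, Bool.and_eq_true, Bool.or_eq_true] at hc
    exact ⟨Nat.le_of_ble_eq_true hc.1.1, Nat.eq_of_beq_eq_true hc.1.2,
      hc.2.imp Nat.eq_of_beq_eq_true Nat.le_of_ble_eq_true⟩
  have mono : ∀ d a, a + (d + 1) < 1755 → vN (srt a) < vN (srt (a + (d + 1))) := by
    intro d
    induction d with
    | zero => exact fun a ha => ((spec a (by omega)).2.2).resolve_left (by omega)
    | succ d ih =>
      intro a ha
      exact (ih a (by omega)).trans (((spec (a + (d + 1)) (by omega)).2.2).resolve_left (by omega))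
  obtain ⟨a1, a2, -⟩ := spec i hi
  obtain ⟨b1, b2, -⟩ := spec j hj
  rcases Nat.lt_trichotomy (rnk i) (rnk j) with hlt | he | hgt
  · have := mono (rnk j - rnk i - 1) (rnk i) (by omega)
    rw [show rnk i + (rnk j - rnk i - 1 + 1) = rnk j by omega, a2, b2, h] at this
    exact absurd this (lt_irrefl _)
  · rw [← a2, ← b2, he]
  · have := mono (rnk i - rnk j - 1) (rnk j) (by omega)
    rw [show rnk j + (rnk i - rnk j - 1 + 1) = rnk i by omega, a2, b2, h] at this
    exact absurd this (lt_irrefl _)

/-- A vector of the orbit as a row. -/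
noncomputable def rowV (i : Fin 1755) : D.Idx → ZMod 2 := vec (vN i)

theorem rowV_inj : Function.Injective rowV := fun i j h => Fin.ext (vN_inj i.2 j.2 (by
  have := mod_eq_of_vec h
  rwa [Nat.mod_eq_of_lt (vN_lt _), Nat.mod_eq_of_lt (vN_lt _)] at this))

/-- The matrix of an element. -/
abbrev mat (g : T2) : Matrix D.Idx D.Idx (ZMod 2) := (g : GL D.Idx (ZMod 2)).val

theorem vecMul_mat_mul (g h : T2) (v : D.Idx → ZMod 2) :
    Matrix.vecMul v (mat (g * h)) = Matrix.vecMul (Matrix.vecMul v (mat g)) (mat h) := by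
  rw [Matrix.vecMul_vecMul]
  rfl

/-- The symbols of the five generators. -/
def sym5 (t : ℕ) : ℕ := [0, 1, 3, 12, 13].getD t 0

/-- The table of a generator of the twisted group. -/
noncomputable def qT (t i : ℕ) : ℕ :=
  ext (bif Nat.beq t 0 then qTab0 else bif Nat.beq t 1 then qTab1 else bif Nat.beq t 2 then qTab2
    else bif Nat.beq t 3 then qTab3 else qTab4) 11 2047 i

/-- The check of such a table. -/
noncomputable def okQ (t i : ℕ) : Bool :=
  Nat.blt (qT t i) 1755 && Nat.beq (actR (symRow (sym5 t)) (vN i)) (vN (qT t i)) &&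
    Nat.beq (wi (qWords.getD t []) i) (qT t i)

theorem okQ_all : allR 1755 (fun i => okQ 0 i && okQ 1 i && okQ 2 i && okQ 3 i && okQ 4 i) 11 0
    = true := by decide +kernel

theorem okQ_spec {t : ℕ} (ht : t < 5) {i : ℕ} (hi : i < 1755) :
    qT t i < 1755 ∧ Matrix.vecMul (vec (vN i)) (mat (symG (sym5 t))) = vec (vN (qT t i)) ∧
      wi (qWords.getD t []) i = qT t i := by
  have h := allR_zero okQ_all (by norm_num) i hi
  simp only [Bool.and_eq_true] at h
  obtain ⟨⟨⟨⟨h0, h1⟩, h2⟩, h3⟩, h4⟩ := h
  have key : okQ t i = true := by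
    obtain rfl | rfl | rfl | rfl | rfl : t = 0 ∨ t = 1 ∨ t = 2 ∨ t = 3 ∨ t = 4 := by omega
    all_goals assumption
  simp only [okQ, Bool.and_eq_true] at key
  refine ⟨Nat.le_of_ble_eq_true key.1.1, ?_, Nat.eq_of_beq_eq_true key.2⟩
  show Matrix.vecMul (vec (vN i)) (symGL (sym5 t)).val = _
  rw [vec_mul_sym, ← actR_eq, Nat.eq_of_beq_eq_true key.1.2]

/-- The elements permuting the orbit. -/
def closedSet : Submonoid T2 where
  carrier := {g | ∀ i, ∃ j, Matrix.vecMul (rowV i) (mat g) = rowV j}
  one_mem' i := ⟨i, by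
    show Matrix.vecMul (rowV i) (1 : Matrix D.Idx D.Idx (ZMod 2)) = _
    rw [Matrix.vecMul_one]⟩
  mul_mem' {g h} hg hh i := by
    obtain ⟨j, hj⟩ := hg i
    obtain ⟨k, hk⟩ := hh j
    exact ⟨k, by rw [vecMul_mat_mul, hj, hk]⟩

theorem gens_closed {t : ℕ} (ht : t < 5) : symG (sym5 t) ∈ closedSet := fun i =>
  ⟨⟨qT t i, (okQ_spec ht i.2).1⟩, (okQ_spec ht i.2).2.1⟩

theorem eq_top_of_sym (M : Subgroup T2) (h : ∀ t < 5, symG (sym5 t) ∈ M) : M = ⊤ :=
  CfsgLib.PMinSocle.Tits.eq_top_of_gens M (h 0 (by norm_num)) (h 1 (by norm_num))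
    (h 2 (by norm_num)) (h 3 (by norm_num)) (h 4 (by norm_num))

theorem mem_closedSet (g : T2) : g ∈ closedSet := by
  let M : Subgroup T2 :=
    { closedSet with
      inv_mem' := fun {x} hx => by
        obtain ⟨n, hn⟩ := (isOfFinOrder_of_finite x).mem_powers_iff_mem_zpowers.2
          (Subgroup.inv_mem _ (Subgroup.mem_zpowers x))
        simp only at hn
        rw [← hn]
        exact Submonoid.pow_mem _ hx n }
  have : M = ⊤ := eq_top_of_sym M fun t ht => gens_closed ht
  exact (this ▸ Subgroup.mem_top g : g ∈ M)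

/-- The image of a point. -/
noncomputable def rhoFun (g : T2) (i : Fin 1755) : Fin 1755 :=
  (mem_closedSet g⁻¹ i).choose

theorem rhoFun_spec (g : T2) (i : Fin 1755) :
    Matrix.vecMul (rowV i) (mat g⁻¹) = rowV (rhoFun g i) :=
  (mem_closedSet g⁻¹ i).choose_spec

theorem rhoFun_one (i : Fin 1755) : rhoFun 1 i = i := rowV_inj (by
  rw [← rhoFun_spec, inv_one]
  exact Matrix.vecMul_one _)

theorem rhoFun_mul (g h : T2) (i : Fin 1755) : rhoFun (g * h) i = rhoFun g (rhoFun h i) :=
  rowV_inj (by rw [← rhoFun_spec, ← rhoFun_spec, ← rhoFun_spec, mul_inv_rev, vecMul_mat_mul])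

/-- The permutations of the orbit. -/
noncomputable def rho : T2 →* Equiv.Perm (Fin 1755) where
  toFun g :=
    { toFun := rhoFun g
      invFun := rhoFun g⁻¹
      left_inv := fun i => by rw [← rhoFun_mul, inv_mul_cancel, rhoFun_one]
      right_inv := fun i => by rw [← rhoFun_mul, mul_inv_cancel, rhoFun_one] }
  map_one' := Equiv.ext rhoFun_one
  map_mul' g h := Equiv.ext (rhoFun_mul g h)

theorem rho_sym {t : ℕ} (ht : t < 5) : rho (symG (sym5 t)) = (res (kw (qWords.getD t [])))⁻¹ := by
  refine eq_inv_of_mul_eq_one_left (Equiv.ext fun i => ?_)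
  obtain ⟨h1, h2, h3⟩ := okQ_spec ht i.2
  rw [Equiv.Perm.mul_apply, show res (kw (qWords.getD t [])) i = ⟨qT t i, h1⟩ from
    Fin.ext ((res_kw _ i).trans h3)]
  show rhoFun _ _ = i
  refine rowV_inj ?_
  rw [← rhoFun_spec, show rowV ⟨qT t i, h1⟩ = Matrix.vecMul (rowV i) (mat (symG (sym5 t)))
    from h2.symm, ← vecMul_mat_mul, mul_inv_cancel]
  exact Matrix.vecMul_one _

theorem rho_range_le : rho.range ≤ res.range := by
  rw [MonoidHom.range_eq_map, Subgroup.map_le_iff_le_comap,
    eq_top_of_sym (res.range.comap rho) fun t ht => ?_]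
  rw [Subgroup.mem_comap, rho_sym ht]
  exact inv_mem ⟨_, rfl⟩

theorem q_noncomm : wi (qWords.getD 0 []) (wi (qWords.getD 3 []) 0) ≠
      wi (qWords.getD 3 []) (wi (qWords.getD 0 []) 0) ∨
    wi (qWords.getD 0 []) (wi (qWords.getD 3 []) 1) ≠
      wi (qWords.getD 3 []) (wi (qWords.getD 0 []) 1) := by decide +kernel

theorem rho_injective : Function.Injective rho := by
  rw [← MonoidHom.ker_eq_bot_iff]
  obtain ⟨hidx, hsimple, -, -⟩ := CfsgLib.ReeF4.tits_facts (K := ZMod 2)
  set T' := commutator T2 with hT'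
  have hnle : ¬ T' ≤ rho.ker := by
    intro hle
    have hc : ∀ a b, rho a * rho b = rho b * rho a := fun a b => by
      have h : rho ⁅a, b⁆ = 1 :=
        MonoidHom.mem_ker.1 (hle (Subgroup.commutator_mem_commutator (Subgroup.mem_top a)
          (Subgroup.mem_top b)))
      rw [map_commutatorElement, commutatorElement_eq_one_iff_mul_comm] at h
      exact h
    have h := hc (symG (sym5 0)) (symG (sym5 3))
    rw [rho_sym (by norm_num), rho_sym (by norm_num), ← mul_inv_rev, ← mul_inv_rev, inv_inj] at h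
    rcases q_noncomm with hq | hq
    · refine hq ?_
      have e := congrArg (fun σ : Equiv.Perm (Fin 1755) => (σ p0).1) h
      simp only [Equiv.Perm.mul_apply, res_kw] at e
      exact e.symm
    · refine hq ?_
      have e := congrArg (fun σ : Equiv.Perm (Fin 1755) => (σ ⟨1, by norm_num⟩).1) h
      simp only [Equiv.Perm.mul_apply, res_kw] at e
      exact e.symm
  have hmeet : ∀ x ∈ rho.ker, x ∈ T' → x = 1 := by
    haveI := hsimple
    rcases ((inferInstance : rho.ker.Normal).subgroupOf T').eq_bot_or_eq_top with h | h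
    · intro x hx hx'
      exact congrArg Subtype.val ((Subgroup.eq_bot_iff_forall _).1 h ⟨x, hx'⟩ hx)
    · exact absurd (Subgroup.subgroupOf_eq_top.1 h) hnle
  refine (Subgroup.eq_bot_iff_forall _).2 fun z hz => ?_
  have hz2 : z * z = 1 := hmeet _ (mul_mem hz hz) (Subgroup.mul_self_mem_of_index_two hidx z)
  by_contra hne
  have hord : orderOf z = 2 := orderOf_eq_prime (by rw [pow_two, hz2]) hne
  exact hne (hmeet z hz (CfsgLib.ReeF4.Two.mem_commutator_of_involution z hord))

theorem card_RK : Nat.card RK = 35942400 := CfsgLib.Ru.card_stab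

theorem card_res_range : Nat.card res.range = Nat.card RK ∧ rho.range = res.range := by
  have h1 : Nat.card rho.range = 35942400 := by
    rw [← Nat.card_congr (MonoidHom.ofInjective rho_injective).toEquiv,
      CfsgLib.ReeF4.natCard_G1₂]
    norm_num
  have h2 : Nat.card res.range ≤ Nat.card RK :=
    Nat.card_le_card_of_surjective _ res.rangeRestrict_surjective
  have h3 := Subgroup.card_le_of_le rho_range_le
  rw [card_RK] at h2
  exact ⟨by rw [card_RK]; omega, Subgroup.eq_of_le_of_card_ge rho_range_le (by omega)⟩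

theorem res_injective : Function.Injective res := by
  have h := (Nat.bijective_iff_surjective_and_card res.rangeRestrict).2
    ⟨res.rangeRestrict_surjective, card_res_range.1.symm⟩
  exact fun a b e => h.1 (Subtype.ext e)

/-- The twisted group is the stabiliser. -/
noncomputable def muT : T2 ≃* RK :=
  (MonoidHom.ofInjective rho_injective).trans
    ((MulEquiv.subgroupCongr card_res_range.2).trans (MonoidHom.ofInjective res_injective).symm)

end CfsgLib.RuRec
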