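import Cfsg.Agent.RuRec.NAutBound
import Cfsg.Agent.RuRec.TwistedAction

/-!
# The cosets of the stabiliser of `0` in the automorphisms of its neighbourhood

Sixty-four explicit automorphisms represent all cosets.
-/

set_option autoImplicit false
set_option Elab.async false

namespace CfsgLib.RuRec

open CfsgLib.Ru

/-- An entry of a table of a symmetry. -/
noncomputable def pT (tbl u : ℕ) : ℕ := ext tbl 10 1023 u

/-- The check of a table of a permutation and its inverse. -/
noncomputable def okPerm (t ti : ℕ) : Bool :=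
  allR 730 (fun u => Nat.blt (pT t u) 730 && Nat.blt (pT ti u) 730 && Nat.beq (pT ti (pT t u)) u &&
    Nat.beq (pT t (pT ti u)) u) 10 0

/-- A permutation from tables. -/
noncomputable def tabPerm {t ti : ℕ} (h : okPerm t ti = true) : Equiv.Perm (Fin 730) where
  toFun u := ⟨pT t u, by
    have := allR_zero h (by norm_num) u.1 u.2
    simp only [Bool.and_eq_true] at this
    exact Nat.le_of_ble_eq_true this.1.1.1⟩
  invFun u := ⟨pT ti u, by
    have := allR_zero h (by norm_num) u.1 u.2
    simp only [Bool.and_eq_true] at this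
    exact Nat.le_of_ble_eq_true this.1.1.2⟩
  left_inv u := Fin.ext (by
    have := allR_zero h (by norm_num) u.1 u.2
    simp only [Bool.and_eq_true] at this
    exact Nat.eq_of_beq_eq_true this.1.2)
  right_inv u := Fin.ext (by
    have := allR_zero h (by norm_num) u.1 u.2
    simp only [Bool.and_eq_true] at this
    exact Nat.eq_of_beq_eq_true this.2)

theorem r0_ok : okPerm r0Tab r0InvTab = true := by decide +kernel

theorem sig_ok : okPerm sigTab sigInvTab = true := by decide +kernel

/-- A table preserves adjacency. -/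
noncomputable def okAut (t : ℕ) : Bool :=
  allR 730 (fun u => force (rowOf (Nat.add u 1)) fun row =>
    force (rowOf (Nat.add (pT t u) 1)) fun row' =>
      allR 730 (fun w => beqB (bitB row' (pT t w)) (bitB row w)) 10 0) 10 0

theorem r0_aut : okAut r0Tab = true := by decide +kernel

theorem sig_aut : okAut sigTab = true := by decide +kernel

theorem tabPerm_mem {t ti : ℕ} (h : okPerm t ti = true) (ha : okAut t = true) :
    tabPerm h ∈ NAut := fun u w => by
  have h1 := allR_zero ha (by norm_num) u.1 u.2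
  rw [force_eq, force_eq] at h1
  exact beqB_eq (allR_zero h1 (by norm_num) w.1 w.2)

/-- The basic symmetry. -/
noncomputable def r0 : NAut := ⟨tabPerm r0_ok, tabPerm_mem r0_ok r0_aut⟩

/-- The exceptional symmetry. -/
noncomputable def sig : NAut := ⟨tabPerm sig_ok, tabPerm_mem sig_ok sig_aut⟩

/-- Exchanging the twins in the pairs of a set of pairs. -/
noncomputable def emN (m u : ℕ) : ℕ :=
  bif Nat.blt u 10 && bitB m (pidN u) then twN u else u

theorem emN_ten {m u : ℕ} (hu : u < 10) : emN m u = if m.testBit (pidN u) then twN u else u := by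
  rw [emN, show Nat.blt u 10 = true from Nat.ble_eq_true_of_le hu, Bool.true_and, bitB_eq]
  cases m.testBit (pidN u) <;> rfl

theorem emN_big {m u : ℕ} (hu : 10 ≤ u) : emN m u = u := by
  rw [emN, show Nat.blt u 10 = false from blt_false hu, Bool.false_and, cond_false]

theorem emN_lt {m u : ℕ} (hu : u < 730) : emN m u < 730 := by
  by_cases h : u < 10
  · rw [emN_ten h]
    have := (twin_checks.2.1 u h).1
    split_ifs <;> omega
  · rwa [emN_big (by omega)]

theorem emN_xor {m n u : ℕ} : emN m (emN n u) = emN (m ^^^ n) u := by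
  by_cases h : u < 10
  · obtain ⟨h1, -, h3, -⟩ := twin_checks.2.1 u h
    have hp := (pair_checks.1 u h).2.2
    rw [emN_ten (m := n) h, emN_ten (m := m ^^^ n) h, Nat.testBit_xor]
    cases e : n.testBit (pidN u)
    · simp only [Bool.false_eq_true, if_false, Bool.xor_false]
      exact emN_ten h
    · simp only [if_true, Bool.xor_true]
      rw [emN_ten h1, hp, h3]
      cases m.testBit (pidN u) <;> simp
  · rw [emN_big (m := n) (by omega), emN_big (by omega), emN_big (by omega)]

theorem emN_zero (u : ℕ) : emN 0 u = u := by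
  by_cases h : u < 10
  · rw [emN_ten h, Nat.zero_testBit]
    rfl
  · exact emN_big (by omega)

/-- Exchanging twins, as a permutation. -/
noncomputable def emPerm (m : ℕ) : Equiv.Perm (Fin 730) where
  toFun u := ⟨emN m u, emN_lt u.2⟩
  invFun u := ⟨emN m u, emN_lt u.2⟩
  left_inv u := Fin.ext (by show emN m (emN m u) = u; rw [emN_xor, Nat.xor_self, emN_zero])
  right_inv u := Fin.ext (by show emN m (emN m u) = u; rw [emN_xor, Nat.xor_self, emN_zero])

theorem RN_symm {u w : ℕ} (hu : u < 730) (hw : w < 730) : RN u w = RN w u := by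
  rw [← RN_eq hu hw, ← RN_eq hw hu]
  exact R_symm (by omega) (by omega)

theorem RN_self {u : ℕ} (hu : u < 730) : RN u u = false := by
  rw [← RN_eq hu hu]
  refine Bool.eq_false_iff.2 fun h => adj_irrefl _ ((R_iff (by omega) (by omega)).1 h)

theorem emPerm_mem (m : ℕ) : emPerm m ∈ NAut := by
  have tw : ∀ u < 10, ∀ w, w ≠ u → w ≠ twN u → RN (twN u) w = RN u w := fun u hu w h1 h2 => by
    obtain ⟨-, -, -, h4⟩ := twin_checks.2.1 u hu
    have h := congrArg (fun x => x.testBit w) (Nat.eq_of_beq_eq_true h4)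
    simp only [closN_bit] at h
    rw [decide_eq_false (Ne.symm h1), decide_eq_false (Ne.symm h2), Bool.or_false,
      Bool.or_false] at h
    exact h.symm
  have hval : ∀ u : ℕ, emN m u = u ∨ (u < 10 ∧ emN m u = twN u) := fun u => by
    by_cases h : u < 10
    · rw [emN_ten h]
      split_ifs
      · exact Or.inr ⟨h, rfl⟩
      · exact Or.inl rfl
    · exact Or.inl (emN_big (by omega))
  intro u w
  show RN (emN m u) (emN m w) = RN u w
  by_cases huw : u = w
  · rw [huw, RN_self (emN_lt w.2), RN_self w.2]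
  by_cases htw : u.1 < 10 ∧ w.1 = twN u
  · obtain ⟨hu, hw⟩ := htw
    obtain ⟨h1, h2, h3, -⟩ := twin_checks.2.1 u hu
    have hp := (pair_checks.1 u hu).2.2
    rw [hw, emN_ten hu, emN_ten h1, hp, h3]
    split_ifs
    · exact RN_symm (by omega) u.2
    · rfl
  push Not at htw
  have hne : w.1 ≠ u.1 := fun e => huw (Fin.ext e.symm)
  have step1 : RN (emN m u) (emN m w) = RN u (emN m w) := by
    rcases hval u with e | ⟨hu, e⟩
    · rw [e]
    · rw [e]
      refine tw u hu _ ?_ ?_
      · rcases hval w with e' | ⟨hw, e'⟩ <;> rw [e']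
        · exact hne
        · intro e2
          refine htw hu ?_
          rw [← (twin_checks.2.1 _ hw).2.2.1, e2]
      · rcases hval w with e' | ⟨hw, e'⟩ <;> rw [e']
        · exact htw hu
        · intro e2
          apply hne
          rw [← (twin_checks.2.1 _ hw).2.2.1, e2, (twin_checks.2.1 _ hu).2.2.1]
  rw [step1, RN_symm u.2 (emN_lt w.2), RN_symm u.2 w.2]
  rcases hval w with e | ⟨hw, e⟩
  · rw [e]
  · rw [e]
    refine tw w hw u hne.symm fun e2 => ?_
    have hu10 : u.1 < 10 := e2 ▸ (twin_checks.2.1 _ hw).1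
    exact htw hu10 (by rw [e2, (twin_checks.2.1 _ hw).2.2.1])

/-- Exchanging twins, as an automorphism. -/
noncomputable def em (m : ℕ) : NAut := ⟨emPerm m, emPerm_mem m⟩

theorem em_mul (m n : ℕ) : em m * em n = em (m ^^^ n) :=
  Subtype.ext (Equiv.ext fun u => Fin.ext (show emN m (emN n u) = emN (m ^^^ n) u from emN_xor))

theorem em_zero : em 0 = 1 := Subtype.ext (Equiv.ext fun u => Fin.ext (emN_zero u))

theorem em_inv (m : ℕ) : (em m)⁻¹ = em m := by
  rw [inv_eq_iff_mul_eq_one, em_mul, Nat.xor_self, em_zero]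

/-! ### Tests -/

/-- The function of a test. -/
noncomputable def dPi (k d : ℕ) : ℕ :=
  bif Nat.blt k 31 then emN (Nat.add k 1) d
  else bif Nat.blt k 62 then pT sigInvTab (emN (Nat.sub k 30) (pT sigTab d))
  else emN (Nat.sub k 62) (pT sigTab d)

/-- A point shows that a position does not match. -/
noncomputable def okDistAt (k o : ℕ) : Bool :=
  force (rowOf o) fun row => (distTests.getD k []).any fun d =>
    !beqB (bitB row (dPi k d)) (bitB (rowOf 731) d)

theorem dist_lt : (distTests.all fun ds => ds.all fun d => Nat.blt d 730) = true := by decide +kernel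

theorem dist_A : allR 47 (fun k => allR 1024 (fun i => okDistAt k (Nat.add 731 i)) 10 0) 6 0 = true := by
  decide +kernel

theorem dist_B :
    allR 47 (fun k => allR 1024 (fun i => okDistAt (Nat.add 47 k) (Nat.add 731 i)) 10 0) 6 0 = true := by
  decide +kernel

theorem outer_of {g : RK} (hg : g ∈ stA) {o : Fin 1755} (ho : 731 ≤ o.1) :
    731 ≤ (res g o).1 := by
  by_contra h
  have h1 : R 0 (res g o) = R 0 o := by
    have := R_res g p0 o
    rwa [mem_stA.1 hg] at this
  by_cases h0 : (res g o).1 = 0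
  · have : o = p0 := (res g).injective ((Fin.ext h0).trans (mem_stA.1 hg).symm)
    rw [this] at ho
    exact absurd ho (by decide)
  · rw [(R_zero (Fin.is_lt _)).2 ⟨by omega, by omega⟩] at h1
    have := (R_zero o.2).1 h1.symm
    omega

/-- The row of an outer position under an element of the stabiliser of `0`. -/
theorem row_res (g : stA) (o : Fin 1755) (ho : 1 ≤ o.1) (ho' : 1 ≤ (res g.1 o).1) (u : Fin 730) :
    bitB (rowOf (res g.1 o)) ((PN g).1 u) = bitB (rowOf o) u := by
  rw [← R_row (Fin.is_lt _) ho' (Fin.is_lt _), ← R_row o.2 ho u.2, ← R_res g.1 o ⟨u + 1, by omega⟩,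
    PN_spec]

theorem not_PN {k : ℕ} (hk : k < 94) (π : NAut) (hπ : ∀ u : Fin 730, (π.1 u).1 = dPi k u)
    (g : stA) : PN g ≠ π := by
  intro e
  set o := res g.1 ⟨731, by norm_num⟩ with ho
  have ho1 : 731 ≤ o.1 := outer_of g.2 (le_refl _)
  have hc : okDistAt k o = true := by
    have he : Nat.add 731 (o.1 - 731) = o.1 := Nat.add_sub_cancel' ho1
    rcases Nat.lt_or_ge k 47 with h | h
    · have h1 := allR_zero (allR_zero dist_A (by norm_num) k h) (by norm_num) (o.1 - 731) (by omega)
      rwa [he] at h1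
    · have h1 := allR_zero (allR_zero dist_B (by norm_num) (k - 47) (by omega)) (by norm_num)
        (o.1 - 731) (by omega)
      rwa [he, show Nat.add 47 (k - 47) = k from Nat.add_sub_cancel' h] at h1
  rw [okDistAt, force_eq, List.any_eq_true] at hc
  obtain ⟨d, hd, hd2⟩ := hc
  have hlt : d < 730 := by
    have h := dist_lt
    simp only [List.all_eq_true] at h
    by_cases hk' : k < distTests.length
    · rw [List.getD_eq_getElem _ _ hk'] at hd
      exact Nat.le_of_ble_eq_true (h _ (List.getElem_mem hk') d hd)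
    · rw [List.getD_eq_default _ _ (Nat.le_of_not_lt hk')] at hd
      simp at hd
  have h := row_res g ⟨731, by norm_num⟩ (by norm_num) (by omega) ⟨d, hlt⟩
  rw [e, ← ho, hπ ⟨d, hlt⟩] at h
  simp only at h
  rw [h] at hd2
  revert hd2
  cases bitB (rowOf 731) d <;> simp [beqB]

/-- The 64 representatives. -/
noncomputable def repN (i : ℕ) : NAut := r0 * em (i % 32) * sig ^ (i / 32)

theorem sig_inv_apply (u : Fin 730) : ((sig⁻¹).1 u).1 = pT sigInvTab u := rfl

theorem rep_disjoint {i j : ℕ} (hi : i < 64) (hj : j < 64) (g : stA)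
    (h : repN j = repN i * PN g) : i = j := by
  by_contra hne
  have hg : PN g = (repN i)⁻¹ * repN j := by rw [h, inv_mul_cancel_left]
  have key : ∀ (a b : ℕ) (g : stA), a < 2 → b < 2 → ∀ m n, m < 32 → n < 32 → a ≤ b →
      (a = b → m ≠ n) → PN g ≠ (r0 * em m * sig ^ a)⁻¹ * (r0 * em n * sig ^ b) := by
    intro a b g ha hb m n hm hn hab hmn
    have e : (r0 * em m * sig ^ a)⁻¹ * (r0 * em n * sig ^ b) =
        (sig ^ a)⁻¹ * em (m ^^^ n) * sig ^ b := by
      rw [← em_mul, mul_inv_rev, mul_inv_rev, em_inv]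
      group
    rw [e]
    have hx : m ^^^ n < 32 := Nat.xor_lt_two_pow (n := 5) hm hn
    have hx0 : a = b → m ^^^ n ≠ 0 := fun hab e => hmn hab (Nat.xor_eq_zero_iff.1 e)
    obtain ⟨rfl, rfl⟩ | ⟨rfl, rfl⟩ | ⟨rfl, rfl⟩ : (a = 0 ∧ b = 0) ∨ (a = 1 ∧ b = 1) ∨
        (a = 0 ∧ b = 1) := by omega
    · have := hx0 rfl
      refine not_PN (k := (m ^^^ n) - 1) (by omega) _ (fun u => ?_) g
      rw [pow_zero, inv_one, one_mul, mul_one, dPi,
        show Nat.blt ((m ^^^ n) - 1) 31 = true from Nat.ble_eq_true_of_le (by omega), cond_true]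
      show emN (m ^^^ n) u = _
      congr 1
      show _ = (m ^^^ n) - 1 + 1
      omega
    · have := hx0 rfl
      refine not_PN (k := (m ^^^ n) + 30) (by omega) _ (fun u => ?_) g
      rw [pow_one, dPi, blt_false (by omega), cond_false,
        show Nat.blt ((m ^^^ n) + 30) 62 = true from Nat.ble_eq_true_of_le (by omega), cond_true,
        show Nat.sub ((m ^^^ n) + 30) 30 = m ^^^ n from Nat.add_sub_cancel _ _]
      rfl
    · refine not_PN (k := (m ^^^ n) + 62) (by omega) _ (fun u => ?_) g
      rw [pow_zero, inv_one, one_mul, pow_one, dPi, blt_false (by omega), cond_false,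
        blt_false (by omega), cond_false,
        show Nat.sub ((m ^^^ n) + 62) 62 = m ^^^ n from Nat.add_sub_cancel _ _]
      rfl
  rcases Nat.le_total (i / 32) (j / 32) with hle | hle
  · exact key (i / 32) (j / 32) g (by omega) (by omega) (i % 32) (j % 32)
      (Nat.mod_lt _ (by norm_num)) (Nat.mod_lt _ (by norm_num)) hle
      (fun e em' => hne (by omega)) hg
  · refine key (j / 32) (i / 32) g⁻¹ (by omega) (by omega) (j % 32) (i % 32)
      (Nat.mod_lt _ (by norm_num)) (Nat.mod_lt _ (by norm_num)) hle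
      (fun e em' => hne (by omega)) ?_
    rw [map_inv, hg, mul_inv_rev, inv_inv]
    rfl

/-- The row `731` occurs once among the outer positions. -/
theorem row_uniq : allR 1024 (fun i => Nat.beq i 0 ||
    !Nat.beq (rowOf (Nat.add 731 i)) (rowOf 731)) 10 0 = true := by decide +kernel

theorem rowOf_ext {i j : ℕ} (h : ∀ u < 730, bitB (rowOf i) u = bitB (rowOf j) u) :
    rowOf i = rowOf j := by
  have hb : ∀ (n k w : ℕ), n = 730 → n ≤ w → (rowOf k).testBit w = false := by
    intro n k w hn hw
    rw [rowOf, ext, show ∀ x y : ℕ, Nat.land x y = x &&& y from fun _ _ => rfl, Nat.testBit_and,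
      ← hn, show ∀ m : ℕ, Nat.sub (Nat.pow 2 m) 1 = 2 ^ m - 1 from fun _ => rfl,
      Nat.testBit_two_pow_sub_one, decide_eq_false (show ¬ w < n by omega), Bool.and_false]
  refine Nat.eq_of_testBit_eq fun w => ?_
  by_cases hw : w < 730
  · rw [← bitB_eq, ← bitB_eq, h w hw]
  · rw [hb 730 i w rfl (by omega), hb 730 j w rfl (by omega)]

theorem PN_injective : Function.Injective PN := by
  rw [injective_iff_map_eq_one]
  intro g hg
  refine Subtype.ext (res_injective ?_)
  rw [Subgroup.coe_one, map_one]
  refine Equiv.ext fun o => ?_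
  rw [Equiv.Perm.one_apply]
  by_cases h0 : o.1 = 0
  · rw [show o = p0 from Fin.ext h0]
    exact mem_stA.1 g.2
  by_cases h1 : o.1 < 731
  · have h := congrArg Fin.val (PN_spec g ⟨o.1 - 1, by omega⟩)
    have e : (⟨o.1 - 1 + 1, by omega⟩ : Fin 1755) = o := Fin.ext (by show o.1 - 1 + 1 = o.1; omega)
    simp only [hg, Subgroup.coe_one, Equiv.Perm.one_apply, e] at h
    exact Fin.ext (h.trans (by omega))
  obtain ⟨k, hk, e⟩ := exists_of_root o
  have hr : subRoot o.1 = 731 := by
    unfold subRoot
    rw [blt_false (by omega), blt_false (by omega), blt_false (by omega), blt_false (by omega)]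
    rfl
  simp only [hr] at e
  set o' := res g.1 o with ho'
  set o'' := (res k).symm o' with ho''
  have ek : res k o'' = o' := Equiv.apply_symm_apply _ _
  have hkinv : res k⁻¹ o' = o'' := by rw [map_inv]; rfl
  have h731 : 731 ≤ o'.1 := outer_of g.2 (by omega)
  have h731' : 731 ≤ o''.1 := hkinv ▸ outer_of (stA.inv_mem hk) h731
  have hrow : rowOf o'' = rowOf 731 := rowOf_ext fun u hu => by
    have a1 := row_res ⟨k, hk⟩ o'' (by omega) (by rw [ek]; omega) ⟨u, hu⟩
    have a2 := row_res ⟨k, hk⟩ ⟨731, by norm_num⟩ (by norm_num) (by rw [e]; omega) ⟨u, hu⟩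
    have a3 := row_res g o (by omega) (by rw [← ho']; omega) ((PN ⟨k, hk⟩).1 ⟨u, hu⟩)
    rw [hg] at a3
    simp only [Subgroup.coe_one, Equiv.Perm.one_apply] at a3
    rw [ek] at a1
    rw [e] at a2
    rw [← ho'] at a3
    simp only at a1 a2
    rw [← a1, a3, a2]
  have hu := allR_zero row_uniq (by norm_num) (o''.1 - 731) (by omega)
  rw [show Nat.add 731 (o''.1 - 731) = o''.1 from Nat.add_sub_cancel' h731', hrow, Nat.beq_refl,
    Bool.not_true, Bool.or_false] at hu
  have : o''.1 = 731 := by
    have := Nat.eq_of_beq_eq_true hu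
    omega
  show o' = o
  rw [← ek, show o'' = (⟨731, by norm_num⟩ : Fin 1755) from Fin.ext this, e]

/-- Every automorphism is in one of the 64 cosets. -/
theorem exists_rep (π : NAut) : ∃ i < 64, ∃ g : stA, π = repN i * PN g := by
  classical
  let f : Fin 64 × stA → NAut := fun x => repN x.1 * PN x.2
  have hf : Function.Injective f := by
    rintro ⟨i, g⟩ ⟨j, g'⟩ e
    have e' : repN j = repN i * PN (g * g'⁻¹) := by
      rw [map_mul, map_inv, ← mul_assoc, eq_mul_inv_iff_mul_eq]
      exact e.symm
    obtain rfl : i = j := Fin.ext (rep_disjoint i.2 j.2 _ e')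
    exact Prod.ext rfl (PN_injective (mul_left_cancel e))
  have hb := Nat.bijective_iff_injective_and_card f
  have hcard : Nat.card (Fin 64 × stA) = Nat.card NAut := by
    refine le_antisymm (Nat.card_le_card_of_injective f hf) ?_
    rw [Nat.card_prod, Nat.card_fin, card_stA]
    exact card_NAut_le
  obtain ⟨⟨i, g⟩, e⟩ := (hb.2 ⟨hf, hcard⟩).2 π
  exact ⟨i, i.2, g, e.symm⟩

end CfsgLib.RuRec
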