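import Cfsg.Agent.RuRec.Rows
import Cfsg.Agent.RuRec.DataNAut

/-!
# The automorphisms of the graph on the 730 neighbours of the position `0`

Colour refinement: the colour of a point is decided by a weighted count of its neighbours.
-/

set_option autoImplicit false
set_option Elab.async false

namespace CfsgLib.RuRec

open CfsgLib.Ru

/-- Adjacency among the 730 neighbours. -/
noncomputable def RN (u w : ℕ) : Bool := bitB (rowOf (u + 1)) w

theorem RN_eq {u w : ℕ} (hu : u < 730) (hw : w < 730) : R (u + 1) (w + 1) = RN u w :=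
  R_row (by omega) (by omega) hw

theorem perm_apply_inv {α : Type*} (π : Equiv.Perm α) (x : α) : π (π⁻¹ x) = x :=
  π.apply_symm_apply x

theorem perm_inv_apply {α : Type*} (π : Equiv.Perm α) (x : α) : π⁻¹ (π x) = x :=
  π.symm_apply_apply x

/-- The automorphisms of the graph on the 730 neighbours. -/
def NAut : Subgroup (Equiv.Perm (Fin 730)) where
  carrier := {π | ∀ u w : Fin 730, RN (π u) (π w) = RN u w}
  one_mem' _ _ := rfl
  mul_mem' {π σ} hπ hσ u w := by rw [Equiv.Perm.mul_apply, Equiv.Perm.mul_apply, hπ, hσ]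
  inv_mem' {π} hπ u w := by
    rw [← hπ (π⁻¹ u) (π⁻¹ w), perm_apply_inv, perm_apply_inv]

theorem res_range_lemma {g : RK} (hg : g ∈ stA) (u : Fin 730) :
    1 ≤ (res g ⟨u + 1, by omega⟩).1 ∧ (res g ⟨u + 1, by omega⟩).1 < 731 := by
  refine (R_zero (Fin.is_lt _)).1 ?_
  have h := R_res g p0 ⟨u + 1, by omega⟩
  rw [mem_stA.1 hg] at h
  exact h.trans (R_zero_succ u.2)

/-- The image of a neighbour. -/
noncomputable def pnFun (g : stA) (u : Fin 730) : Fin 730 :=
  ⟨(res g.1 ⟨u + 1, by omega⟩).1 - 1, by have := res_range_lemma g.2 u; omega⟩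

theorem pnFun_spec (g : stA) (u : Fin 730) :
    res g.1 ⟨u + 1, by omega⟩ = ⟨(pnFun g u).1 + 1, by omega⟩ := by
  have := res_range_lemma g.2 u
  refine Fin.ext ?_
  show _ = (res g.1 ⟨u + 1, _⟩).1 - 1 + 1
  omega

theorem pnFun_mul (g h : stA) (u : Fin 730) : pnFun (g * h) u = pnFun g (pnFun h u) := by
  refine Fin.ext (Nat.add_right_cancel (m := 1) (congrArg Fin.val ?_ :
    (⟨(pnFun (g * h) u).1 + 1, by omega⟩ : Fin 1755).1 = (⟨_ + 1, by omega⟩ : Fin 1755).1))
  rw [← pnFun_spec, ← pnFun_spec, Subgroup.coe_mul, map_mul, Equiv.Perm.mul_apply, pnFun_spec]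

theorem pnFun_one (u : Fin 730) : pnFun 1 u = u := by
  refine Fin.ext ?_
  show (res ((1 : stA) : RK) ⟨u + 1, _⟩).1 - 1 = u
  rw [Subgroup.coe_one, map_one]
  rfl

/-- The action of the stabiliser of `0` on its neighbours. -/
noncomputable def pnPerm : stA →* Equiv.Perm (Fin 730) where
  toFun g :=
    { toFun := pnFun g
      invFun := pnFun g⁻¹
      left_inv := fun i => by rw [← pnFun_mul, inv_mul_cancel, pnFun_one]
      right_inv := fun i => by rw [← pnFun_mul, mul_inv_cancel, pnFun_one] }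
  map_one' := Equiv.ext pnFun_one
  map_mul' g h := Equiv.ext (pnFun_mul g h)

theorem pnPerm_mem (g : stA) : pnPerm g ∈ NAut := fun u w => by
  show RN (pnFun g u) (pnFun g w) = RN u w
  rw [← RN_eq (Fin.is_lt _) (Fin.is_lt _), ← RN_eq u.2 w.2,
    ← R_res g.1 ⟨u + 1, by omega⟩ ⟨w + 1, by omega⟩, pnFun_spec, pnFun_spec]

/-- The action of the stabiliser of `0` on its neighbours, as automorphisms. -/
noncomputable def PN : stA →* NAut := pnPerm.codRestrict NAut pnPerm_mem

theorem PN_spec (g : stA) (u : Fin 730) :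
    res g.1 ⟨u + 1, by omega⟩ = ⟨((PN g).1 u).1 + 1, by omega⟩ := pnFun_spec g u

/-! ### Weighted counts -/

/-- A weighted count of the neighbours in a row. -/
noncomputable def wsum (row : ℕ) (w : ℕ → ℕ) (n : ℕ) : ℕ :=
  Nat.rec 0 (fun u acc => bif bitB row u then Nat.add acc (w u) else acc) n

theorem wsum_eq (row : ℕ) (w : ℕ → ℕ) : ∀ n,
    wsum row w n = ∑ u ∈ Finset.range n, if bitB row u = true then w u else 0
  | 0 => rfl
  | n + 1 => by
    rw [Finset.sum_range_succ, ← wsum_eq row w n]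
    show (bif bitB row n then Nat.add (wsum row w n) (w n) else wsum row w n) = _
    cases bitB row n <;> simp

/-- The key of a point with respect to given colours. -/
noncomputable def key (pc : ℕ → ℕ) (z : ℕ) : ℕ :=
  force (rowOf (Nat.add z 1)) fun row =>
    Nat.add (Nat.mul (wsum row (fun u => Nat.pow (Nat.add (pc u) 3) 5) 730) 2048) (pc z)

theorem wsum_fin (row : ℕ) (w : ℕ → ℕ) (n : ℕ) :
    wsum row w n = ∑ u : Fin n, if bitB row u = true then w u else 0 := by
  rw [wsum_eq, Finset.sum_range]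

theorem key_inv {π : Equiv.Perm (Fin 730)} (hπ : π ∈ NAut) {pc : ℕ → ℕ}
    (hpc : ∀ z : Fin 730, pc (π z) = pc z) (z : Fin 730) : key pc (π z) = key pc z := by
  unfold key
  rw [force_eq, force_eq]
  have hw : ∀ f : ℕ → ℕ, (∀ u : Fin 730, f (π u) = f u) →
      wsum (rowOf (Nat.add (π z).1 1)) f 730 = wsum (rowOf (Nat.add z.1 1)) f 730 := by
    intro f hf
    rw [wsum_fin, wsum_fin, ← Equiv.sum_comp π]
    refine Finset.sum_congr rfl fun u _ => ?_
    show (if RN (π z) (π u) = true then _ else _) = if RN z u = true then _ else _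
    rw [hπ, hf]
  rw [hw _ (fun u => by show Nat.pow _ _ = Nat.pow _ _; rw [hpc]), hpc]

/-- An entry of a table of colours. -/
noncomputable def cT (tbl z : ℕ) : ℕ := ext tbl 10 1023 z

/-- An entry of a table of keys. -/
noncomputable def kT (tbl c : ℕ) : ℕ := ext tbl 96 (Nat.sub (Nat.pow 2 96) 1) c

/-- The check of a round of refinement. -/
noncomputable def okRound (pc : ℕ → ℕ) (ct kt num z : ℕ) : Bool :=
  Nat.blt (cT ct z) num && Nat.beq (key pc z) (kT kt (cT ct z))

/-- The keys increase. -/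
noncomputable def okMono (kt num : ℕ) : Bool :=
  allR num (fun c => Nat.beq (Nat.add c 1) num || Nat.blt (kT kt c) (kT kt (Nat.add c 1))) 10 0

theorem round_inv {pc : ℕ → ℕ} {ct kt num : ℕ} (hn : num ≤ 1024)
    (h : allR 730 (okRound pc ct kt num) 10 0 = true) (hm : okMono kt num = true)
    {π : Equiv.Perm (Fin 730)} (hπ : π ∈ NAut) (hpc : ∀ z : Fin 730, pc (π z) = pc z)
    (z : Fin 730) : cT ct (π z) = cT ct z := by
  have spec : ∀ y : Fin 730, cT ct y < num ∧ key pc y = kT kt (cT ct y) := fun y => by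
    have hc := allR_zero h (by norm_num) y.1 y.2
    simp only [okRound, Bool.and_eq_true] at hc
    exact ⟨Nat.le_of_ble_eq_true hc.1, Nat.eq_of_beq_eq_true hc.2⟩
  have mono : ∀ d a, a + (d + 1) < num → kT kt a < kT kt (a + (d + 1)) := by
    have step : ∀ a, a + 1 < num → kT kt a < kT kt (a + 1) := fun a ha => by
      have hc := allR_zero hm (by omega) a (by omega)
      simp only [Bool.or_eq_true] at hc
      rcases hc with hc | hc
      · have := Nat.eq_of_beq_eq_true hc
        exact absurd this (by show a + 1 ≠ num; omega)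
      · exact Nat.le_of_ble_eq_true hc
    intro d
    induction d with
    | zero => exact fun a ha => step a ha
    | succ d ih => exact fun a ha => (ih a (by omega)).trans (step (a + (d + 1)) (by omega))
  obtain ⟨h1, h2⟩ := spec (π z)
  obtain ⟨h3, h4⟩ := spec z
  have e : kT kt (cT ct (π z)) = kT kt (cT ct z) := by rw [← h2, ← h4, key_inv hπ hpc]
  rcases Nat.lt_trichotomy (cT ct (π z)) (cT ct z) with hlt | he | hgt
  · have := mono (cT ct z - cT ct (π z) - 1) (cT ct (π z)) (by omega)
    rw [show cT ct (π z) + (cT ct z - cT ct (π z) - 1 + 1) = cT ct z by omega] at this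
    omega
  · exact he
  · have := mono (cT ct (π z) - cT ct z - 1) (cT ct z) (by omega)
    rw [show cT ct z + (cT ct (π z) - cT ct z - 1 + 1) = cT ct (π z) by omega] at this
    omega

theorem round0 : allR 730 (okRound (fun _ => 0) colTab0 keyTab0 colNum0) 10 0 = true := by
  decide +kernel

theorem mono0 : okMono keyTab0 colNum0 = true := by decide +kernel

theorem col0_inv {π : Equiv.Perm (Fin 730)} (hπ : π ∈ NAut) (z : Fin 730) :
    cT colTab0 (π z) = cT colTab0 z :=
  round_inv (pc := fun _ => 0) (by decide) round0 mono0 hπ (fun _ => rfl) z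

/-! ### The ten twins -/

/-- The twin of one of the first ten points. -/
def twN (u : ℕ) : ℕ := twinList.getD u 0

/-- The closed neighbourhood as a number. -/
noncomputable def closN (u : ℕ) : ℕ := Nat.lor (rowOf (Nat.add u 1)) (Nat.pow 2 u)

theorem twin_checks : allR 730 (fun u => beqB (Nat.beq (cT colTab0 u) (cT colTab0 0))
      (Nat.blt u 10)) 10 0 = true ∧
    (∀ u < 10, twN u < 10 ∧ twN u ≠ u ∧ twN (twN u) = u ∧
      Nat.beq (closN u) (closN (twN u)) = true) ∧
    (∀ u < 10, ∀ v < 10, Nat.beq (closN u) (closN v) = true → v = u ∨ v = twN u) := by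
  decide +kernel

theorem closN_bit (u : ℕ) (w : ℕ) : (closN u).testBit w = (RN u w || decide (u = w)) := by
  show (rowOf (u + 1) ||| 2 ^ u).testBit w = _
  rw [Nat.testBit_or, Nat.testBit_two_pow, RN, bitB_eq]

theorem closN_lt (n : ℕ) : n = 730 → ∀ v < n, ∀ w ≥ n, (closN v).testBit w = false := by
  intro hn v hv w hw
  rw [closN_bit, RN, bitB_eq, decide_eq_false (show v ≠ w by omega), Bool.or_false, rowOf, ext,
    show ∀ x y : ℕ, Nat.land x y = x &&& y from fun _ _ => rfl, Nat.testBit_and, ← hn,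
    show ∀ m : ℕ, Nat.sub (Nat.pow 2 m) 1 = 2 ^ m - 1 from fun _ => rfl,
    Nat.testBit_two_pow_sub_one, decide_eq_false (show ¬ w < n by omega), Bool.and_false]

theorem lt_ten {π : Equiv.Perm (Fin 730)} (hπ : π ∈ NAut) (u : Fin 730) :
    (π u).1 < 10 ↔ u.1 < 10 := by
  have h : ∀ v : Fin 730, v.1 < 10 ↔ cT colTab0 v = cT colTab0 0 := fun v => by
    have e := beqB_eq (allR_zero twin_checks.1 (by norm_num) v.1 v.2)
    rw [← Nat.blt_eq, ← e, Nat.beq_eq]
  rw [h, h, col0_inv hπ]

/-- Automorphisms respect twins. -/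
theorem twin_inv {π : Equiv.Perm (Fin 730)} (hπ : π ∈ NAut) (u : Fin 730) (hu : u.1 < 10) :
    (π ⟨twN u, by have := (twin_checks.2.1 u hu).1; omega⟩).1 = twN (π u) := by
  obtain ⟨h1, h2, -, h4⟩ := twin_checks.2.1 u hu
  set t : Fin 730 := ⟨twN u, by omega⟩ with ht
  have hlt := closN_lt 730
  have e : closN u = closN t := Nat.eq_of_beq_eq_true h4
  have e' : closN (π u) = closN (π t) := by
    refine Nat.eq_of_testBit_eq fun w => ?_
    by_cases hw : w < 730
    · have h := congrArg (fun x => x.testBit (π⁻¹ ⟨w, hw⟩).1) e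
      simp only [closN_bit] at h ⊢
      have r : ∀ v : Fin 730, (RN (π v) w || decide ((π v).1 = w)) =
          (RN v (π⁻¹ ⟨w, hw⟩).1 || decide (v.1 = (π⁻¹ ⟨w, hw⟩).1)) := by
        intro v
        have := hπ v (π⁻¹ ⟨w, hw⟩)
        rw [perm_apply_inv] at this
        rw [← this]
        congr 1
        refine decide_eq_decide.2 ⟨fun hv => ?_, fun hv => ?_⟩
        · rw [show (⟨w, hw⟩ : Fin 730) = π v from Fin.ext hv.symm, perm_inv_apply]
        · rw [show v = π⁻¹ ⟨w, hw⟩ from Fin.ext hv, perm_apply_inv]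
      rw [r, r]
      exact h
    · rw [hlt rfl _ (π u).2 w (by omega), hlt rfl _ (π t).2 w (by omega)]
  have hu' := (lt_ten hπ u).2 hu
  have ht' := (lt_ten hπ t).2 h1
  rcases twin_checks.2.2 _ hu' _ ht' (by rw [e']; exact Nat.beq_refl _) with h | h
  · exact absurd (congrArg Fin.val (π.injective (Fin.ext h))) h2
  · exact h

end CfsgLib.RuRec
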