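import Cfsg.Agent.Ru.Rel
import Cfsg.Agent.RuRec.DataGroup

/-!
# The stabiliser of a line on the 1755 lines of its short suborbit

Tables of three generators, the relation "adjacent" between lines, and the five orbits of the
stabiliser of the point `0`.
-/

set_option autoImplicit false
set_option Elab.async false

namespace CfsgLib.RuRec

open CfsgLib.Ru Cfsg.Spor

/-- The stabiliser of the first line. -/
abbrev RK : Type := MulAction.stabilizer RL ln0

/-- A bit of a number. -/
noncomputable def bitB (r u : ℕ) : Bool := Nat.beq (Nat.land (Nat.shiftRight r u) 1) 1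

theorem bitB_eq (r u : ℕ) : bitB r u = r.testBit u := by
  rw [bitB, Nat.testBit, show Nat.land (Nat.shiftRight r u) 1 = r >>> u &&& 1 from rfl,
    Nat.and_one_is_mod]
  rcases Nat.mod_two_eq_zero_or_one (r >>> u) with h | h <;>
    simp [h, Nat.one_and_eq_mod_two] <;> rfl

/-- Equality of Booleans for the kernel. -/
noncomputable def beqB (a b : Bool) : Bool := bif a then b else !b

theorem beqB_eq {a b : Bool} (h : beqB a b = true) : a = b := by
  cases a <;> cases b <;> simp [beqB] at h ⊢

/-! ### Adjacency -/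

/-- Adjacency of lines by numbers. -/
noncomputable def adjN (l m : ℕ) : Bool := Nat.beq (relN l m) (relN 0 1)

/-- Adjacency of lines. -/
def Adj (l m : Ln) : Prop := adjN l.1 m.1 = true

theorem adjN_smul (r : RL) (l m : Ln) : adjN (r • l).1 (r • m).1 = adjN l.1 m.1 := by
  rw [adjN, adjN, relN_smul]

theorem adj_smul (r : RL) (l m : Ln) : Adj (r • l) (r • m) ↔ Adj l m := by
  rw [Adj, Adj, adjN_smul]

theorem okZero : allR 4060 (fun l => beqB (adjN 0 l) (Nat.blt (code l) 1755)) 12 0 = true := by
  decide +kernel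

theorem ln0_val : (ln0 : Ln).1 = 0 := mkLn_val (by norm_num)

theorem adj_ln0 (l : Ln) : Adj ln0 l ↔ code l.1 < 1755 := by
  have h := beqB_eq (allR_zero okZero (by norm_num) l.1 l.2)
  rw [Adj, ln0_val, h]
  exact Nat.blt_eq.to_iff

theorem okSymm : allR 4060 (fun l => beqB (adjN 0 l) (adjN l 0)) 12 0 = true := by decide +kernel

theorem adj_symm {l m : Ln} (h : Adj l m) : Adj m l := by
  obtain ⟨r, hr⟩ := MulAction.exists_smul_eq RL l ln0
  rw [← adj_smul r, hr] at h ⊢
  have e := beqB_eq (allR_zero okSymm (by norm_num) (r • m).1 (r • m).2)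
  rw [Adj, ln0_val] at h ⊢
  rwa [← e]

theorem okIrr : adjN 0 0 = false := by decide +kernel

theorem adj_irrefl (l : Ln) : ¬ Adj l l := by
  obtain ⟨r, hr⟩ := MulAction.exists_smul_eq RL l ln0
  rw [← adj_smul r, hr, Adj, ln0_val, okIrr]
  exact Bool.false_ne_true

/-! ### The 1755 lines -/

/-- The number of a line of the suborbit. -/
noncomputable def oL (i : ℕ) : ℕ := Nat.div (nodeV subNode i) 4

/-- A line of the suborbit. -/
noncomputable def oLine (i : ℕ) : Ln := mkLn (oL i)

theorem oL_lt {i : ℕ} (hi : i < 1755) : oL i < 4060 := by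
  have := (sub_spec hi).1.2.1
  show nodeV subNode i / 4 < 4060
  omega

theorem oLine_val {i : ℕ} (hi : i < 1755) : (oLine i).1 = oL i := mkLn_val (oL_lt hi)

theorem oLine_code {i : ℕ} (hi : i < 1755) : code (oLine i).1 < 1755 := by
  rw [oLine_val hi]
  exact (sub_spec hi).1.2.2.1

/-- The position of a line of the suborbit. -/
noncomputable def oIdx (l : ℕ) : ℕ := subPos.search (Nat.div (nodeV pNode (code l)) 4)

theorem oIdx_lt {l : Ln} (h : code l.1 < 1755) : oIdx l.1 < 1755 := (sub_spec h).2.1.1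

theorem oLine_oIdx {l : Ln} (h : code l.1 < 1755) : oLine (oIdx l.1) = l := by
  show mkLn (nodeV subNode (subPos.search (nodeV pNode (code l.1) / 4)) / 4) = l
  rw [(sub_spec h).2.1.2, ← codeLine_lt h, (code_spec l.2).2.1, mkLn_eq]

theorem oIdx_oLine {i : ℕ} (hi : i < 1755) : oIdx (oLine i).1 = i := by
  obtain ⟨-, -, h2, h3⟩ := (sub_spec hi).1
  show subPos.search (nodeV pNode (code (oLine i).1) / 4) = i
  rw [oLine_val hi]
  show subPos.search (nodeV pNode (code (nodeV subNode i / 4)) / 4) = i
  rw [← codeLine_lt h2, (code_spec (show nodeV subNode i / 4 < 4060 from oL_lt hi)).2.1, h3]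

theorem oLine_inj {i j : ℕ} (hi : i < 1755) (hj : j < 1755) (h : oLine i = oLine j) : i = j := by
  rw [← oIdx_oLine hi, ← oIdx_oLine hj, h]

theorem code_smul {g : RL} (hg : g • ln0 = ln0) {l : Ln} (h : code l.1 < 1755) :
    code (g • l).1 < 1755 := by
  rw [← adj_ln0] at h ⊢
  rwa [← hg, adj_smul]

/-- The image of a position. -/
noncomputable def resFun (g : RK) (i : Fin 1755) : Fin 1755 :=
  ⟨oIdx (g.1 • oLine i).1,
    oIdx_lt (code_smul (MulAction.mem_stabilizer_iff.1 g.2) (oLine_code i.2))⟩

theorem oLine_resFun (g : RK) (i : Fin 1755) : oLine (resFun g i) = g.1 • oLine i :=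
  oLine_oIdx (code_smul (MulAction.mem_stabilizer_iff.1 g.2) (oLine_code i.2))

theorem resFun_one (i : Fin 1755) : resFun 1 i = i := by
  refine Fin.ext ?_
  show oIdx ((1 : RL) • oLine i).1 = i
  rw [one_smul, oIdx_oLine i.2]

theorem resFun_mul (g h : RK) (i : Fin 1755) : resFun (g * h) i = resFun g (resFun h i) :=
  Fin.ext (oLine_inj (Fin.is_lt _) (Fin.is_lt _) (by
    rw [oLine_resFun, oLine_resFun, oLine_resFun, Subgroup.coe_mul, mul_smul]))

/-- The action on the 1755 positions. -/
noncomputable def res : RK →* Equiv.Perm (Fin 1755) where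
  toFun g :=
    { toFun := resFun g
      invFun := resFun g⁻¹
      left_inv := fun i => by rw [← resFun_mul, inv_mul_cancel, resFun_one]
      right_inv := fun i => by rw [← resFun_mul, mul_inv_cancel, resFun_one] }
  map_one' := Equiv.ext resFun_one
  map_mul' g h := Equiv.ext (resFun_mul g h)

theorem oLine_res (g : RK) (i : Fin 1755) : oLine (res g i) = g.1 • oLine i := oLine_resFun g i

/-- Adjacency of positions. -/
noncomputable def R (i j : ℕ) : Bool := adjN (oL i) (oL j)

theorem R_iff {i j : ℕ} (hi : i < 1755) (hj : j < 1755) :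
    R i j = true ↔ Adj (oLine i) (oLine j) := by
  rw [Adj, oLine_val hi, oLine_val hj, R]

theorem R_res (g : RK) (i j : Fin 1755) : R (res g i) (res g j) = R i j := by
  have h := adjN_smul g.1 (oLine i) (oLine j)
  rw [← oLine_res, ← oLine_res, oLine_val (Fin.is_lt _), oLine_val (Fin.is_lt _), oLine_val i.2,
    oLine_val j.2] at h
  exact h

theorem R_symm {i j : ℕ} (hi : i < 1755) (hj : j < 1755) : R i j = R j i := by
  refine Bool.eq_iff_iff.2 ?_
  rw [R_iff hi hj, R_iff hj hi]
  exact ⟨adj_symm, adj_symm⟩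

/-! ### Generators and words -/

/-- The generators. -/
noncomputable def kf (a : ℕ) : fourRu :=
  bif Nat.beq a 0 then (good_one 0).aut else bif Nat.beq a 1 then (good_one 1).aut else uAut

theorem kf_fix (a : ℕ) : kf a • ln0 = ln0 := by
  unfold kf
  cases Nat.beq a 0
  · rw [cond_false]
    cases Nat.beq a 1
    · rw [cond_false]; exact fix_ln0 uAut_mem
    · rw [cond_true]; exact fix_ln0 (T1_le (one_mem 1))
  · rw [cond_true]; exact fix_ln0 (T1_le (one_mem 0))

/-- The generators in the stabiliser. -/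
noncomputable def kg (a : ℕ) : RK :=
  ⟨im (kf a), MulAction.mem_stabilizer_iff.2 ((im_smul _ _).trans (kf_fix a))⟩

/-- The table of a generator on lines. -/
noncomputable def kImg (a l : ℕ) : ℕ :=
  bif Nat.beq a 0 then lineImg (oneT 0) l else bif Nat.beq a 1 then lineImg (oneT 1) l
    else Nat.div (uImg (Nat.mul 4 l)) 4

theorem kg_smul (a : ℕ) (l : Ln) : ((kg a).1 • l).1 = kImg a l.1 := by
  show (im (kf a) • l).1 = _
  rw [im_smul]
  show (kf a • lineRep l).1 / 4 = _
  unfold kf kImg
  cases Nat.beq a 0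
  · rw [cond_false, cond_false]
    cases Nat.beq a 1
    · rw [cond_false, cond_false, uAut_smul]
      rfl
    · rw [cond_true, cond_true, aut_smul]
      rfl
  · rw [cond_true, cond_true, aut_smul]
    rfl

/-- The table of a generator. -/
noncomputable def gT (a i : ℕ) : ℕ :=
  ext (bif Nat.beq a 0 then gTab0 else bif Nat.beq a 1 then gTab1 else gTab2) 11 2047 i

/-- The check of a table of a generator. -/
noncomputable def okGen (a i : ℕ) : Bool :=
  Nat.blt (gT a i) 1755 && Nat.beq (kImg a (oL i)) (oL (gT a i))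

theorem okGen_all : allR 1755 (fun i => okGen 0 i && okGen 1 i && okGen 2 i) 11 0 = true := by
  decide +kernel

theorem res_kg (a : ℕ) (i : Fin 1755) : (res (kg a) i).1 = gT a i := by
  have h := allR_zero okGen_all (by norm_num) i.1 i.2
  simp only [Bool.and_eq_true] at h
  have key : okGen a i = true := by
    by_cases h0 : a = 0
    · exact h0 ▸ h.1.1
    by_cases h1 : a = 1
    · exact h1 ▸ h.1.2
    have e : okGen a i = okGen 2 i := by
      have n0 : Nat.beq a 0 = false := Bool.eq_false_iff.2 fun e => h0 (Nat.eq_of_beq_eq_true e)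
      have n1 : Nat.beq a 1 = false := Bool.eq_false_iff.2 fun e => h1 (Nat.eq_of_beq_eq_true e)
      simp only [okGen, gT, kImg, n0, n1, cond_false]
      rfl
    exact e ▸ h.2
  simp only [okGen, Bool.and_eq_true] at key
  have hlt : gT a i < 1755 := Nat.le_of_ble_eq_true key.1
  refine oLine_inj (Fin.is_lt _) hlt ?_
  refine Fin.ext ?_
  rw [oLine_res, kg_smul, oLine_val i.2, oLine_val hlt, Nat.eq_of_beq_eq_true key.2]

/-- The element of a word. -/
noncomputable def kw (w : List ℕ) : RK := (w.map kg).prod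

/-- The image of a position under a word. -/
noncomputable def wi (w : List ℕ) (x : ℕ) : ℕ := List.rec x (fun a _ ih => gT a ih) w

theorem res_kw : ∀ (w : List ℕ) (i : Fin 1755), (res (kw w) i).1 = wi w i
  | [], i => by rw [kw, List.map_nil, List.prod_nil, map_one]; rfl
  | a :: w, i => by
    rw [kw, List.map_cons, List.prod_cons, map_mul, Equiv.Perm.mul_apply, res_kg,
      show res ((w.map kg).prod) i = res (kw w) i from rfl, res_kw w i]
    rfl

/-! ### The stabiliser of the point `0` -/

/-- The position `0`. -/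
def p0 : Fin 1755 := ⟨0, by norm_num⟩

/-- The stabiliser of the position `0`. -/
noncomputable def stA : Subgroup RK :=
  (MulAction.stabilizer (Equiv.Perm (Fin 1755)) p0).comap res

theorem mem_stA {g : RK} : g ∈ stA ↔ res g p0 = p0 := Iff.rfl

/-- The tables of three elements of the stabiliser of the position `0`. -/
noncomputable def eT' (a i : ℕ) : ℕ :=
  ext (bif Nat.beq a 0 then eTab0 else bif Nat.beq a 1 then eTab1 else eTab2) 11 2047 i

/-- The word of such an element. -/
noncomputable def eW (a : ℕ) : List ℕ :=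
  bif Nat.beq a 0 then eWords.getD 0 [] else bif Nat.beq a 1 then eWords.getD 1 []
    else eWords.getD 2 []

theorem okE : allR 1755 (fun i => Nat.beq (wi (eWords.getD 0 []) i) (ext eTab0 11 2047 i) &&
    Nat.beq (wi (eWords.getD 1 []) i) (ext eTab1 11 2047 i) &&
    Nat.beq (wi (eWords.getD 2 []) i) (ext eTab2 11 2047 i)) 11 0 = true := by decide +kernel

theorem res_eW (a : ℕ) (i : Fin 1755) : (res (kw (eW a)) i).1 = eT' a i := by
  have h := allR_zero okE (by norm_num) i.1 i.2
  simp only [Bool.and_eq_true] at h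
  rw [res_kw, eW, eT']
  cases Nat.beq a 0
  · rw [cond_false, cond_false]
    cases Nat.beq a 1
    · exact Nat.eq_of_beq_eq_true h.2
    · exact Nat.eq_of_beq_eq_true h.1.2
  · exact Nat.eq_of_beq_eq_true h.1.1

theorem eW_mem (a : ℕ) : kw (eW a) ∈ stA := by
  rw [mem_stA]
  refine Fin.ext ?_
  rw [res_eW]
  unfold eT'
  cases Nat.beq a 0
  · rw [cond_false]
    cases Nat.beq a 1 <;> decide +kernel
  · rw [cond_true]; decide +kernel

/-- The slot of a position in the trees of the suborbits. -/
noncomputable def sSlot (v : ℕ) : ℕ := ext subSlot 11 2047 v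

/-- The position of a slot. -/
noncomputable def sV (k : ℕ) : ℕ := Nat.land (ext subOrd 24 16777215 k) 2047

/-- The parent slot. -/
noncomputable def sP (k : ℕ) : ℕ := Nat.land (Nat.shiftRight (ext subOrd 24 16777215 k) 11) 2047

/-- The generator of a slot. -/
noncomputable def sG (k : ℕ) : ℕ := Nat.shiftRight (ext subOrd 24 16777215 k) 22

/-- The check of the trees. -/
noncomputable def okTree (k : ℕ) : Bool :=
  Nat.blt (sV k) 1755 && Nat.beq (subRoot (sV k)) (subRoot k) &&
    Nat.blt (sSlot k) 1755 && Nat.beq (sV (sSlot k)) k &&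
    ((Nat.beq k (subRoot k) && Nat.beq (sV k) k) ||
      (Nat.blt (sP k) k && Nat.beq (subRoot (sP k)) (subRoot k) &&
        Nat.beq (eT' (sG k) (sV (sP k))) (sV k)))

theorem okTree_all : allR 1755 okTree 11 0 = true := by decide +kernel

theorem tree_spec {k : ℕ} (hk : k < 1755) :
    sV k < 1755 ∧ subRoot (sV k) = subRoot k ∧ sSlot k < 1755 ∧ sV (sSlot k) = k ∧
      ((k = subRoot k ∧ sV k = k) ∨ (sP k < k ∧ subRoot (sP k) = subRoot k ∧
        eT' (sG k) (sV (sP k)) = sV k)) := by
  have h := allR_zero okTree_all (by norm_num) k hk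
  simp only [okTree, Bool.and_eq_true, Bool.or_eq_true] at h
  obtain ⟨⟨⟨⟨h1, h2⟩, h3⟩, h4⟩, h5⟩ := h
  refine ⟨Nat.le_of_ble_eq_true h1, Nat.eq_of_beq_eq_true h2, Nat.le_of_ble_eq_true h3,
    Nat.eq_of_beq_eq_true h4, ?_⟩
  rcases h5 with ⟨a, b⟩ | ⟨⟨a, b⟩, c⟩
  · exact Or.inl ⟨Nat.eq_of_beq_eq_true a, Nat.eq_of_beq_eq_true b⟩
  · exact Or.inr ⟨Nat.le_of_ble_eq_true a, Nat.eq_of_beq_eq_true b, Nat.eq_of_beq_eq_true c⟩

theorem subRoot_lt {i : ℕ} (_hi : i < 1755) : subRoot i < 1755 := by
  unfold subRoot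
  rcases Bool.eq_false_or_eq_true (Nat.blt i 1) with h | h <;> rw [h]
  · simp
  rcases Bool.eq_false_or_eq_true (Nat.blt i 11) with h | h <;> rw [h]
  · simp
  rcases Bool.eq_false_or_eq_true (Nat.blt i 91) with h | h <;> rw [h]
  · simp
  rcases Bool.eq_false_or_eq_true (Nat.blt i 731) with h | h <;> rw [h] <;> simp

/-- Every position is reached from the start of its suborbit. -/
theorem exists_of_root (i : Fin 1755) :
    ∃ g ∈ stA, res g ⟨subRoot i, subRoot_lt i.2⟩ = i := by
  have key : ∀ k, ∀ hk : k < 1755, ∃ g ∈ stA,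
      (res g ⟨subRoot k, subRoot_lt hk⟩).1 = sV k := by
    intro k
    induction k using Nat.strong_induction_on with
    | _ k ih =>
      intro hk
      rcases (tree_spec hk).2.2.2.2 with ⟨a, b⟩ | ⟨a, b, c⟩
      · refine ⟨1, stA.one_mem, ?_⟩
        rw [map_one, b]
        exact a.symm
      · obtain ⟨g, hg, e⟩ := ih _ a (a.trans hk)
        refine ⟨kw (eW (sG k)) * g, stA.mul_mem (eW_mem _) hg, ?_⟩
        rw [map_mul, Equiv.Perm.mul_apply, res_eW]
        simp only [b] at e
        rw [e, c]
  obtain ⟨h1, -, h3, h4, -⟩ := tree_spec i.2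
  obtain ⟨g, hg, e⟩ := key (sSlot i) h3
  have hr : subRoot (sSlot i) = subRoot i := by rw [← (tree_spec h3).2.1, h4]
  refine ⟨g, hg, Fin.ext ?_⟩
  simp only [hr] at e
  rw [e, h4]

end CfsgLib.RuRec
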