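import Cfsg.Agent.RuRec.Model
import Cfsg.Agent.RankThree.OrbitalGraph

/-!
# Rank 3 groups with stabiliser `²F₄(2)` and subdegrees 1755 and 2304
-/

set_option autoImplicit false
set_option Elab.async false
set_option linter.style.haveILetI false

namespace CfsgLib.RuRec

open CfsgLib.Ru
open scoped Pointwise

universe u

variable {Ω : Type u}

/-- A union of suborbits of the stabiliser of `0`. -/
theorem card_union (S : Set (Fin 1755)) (hS : ∀ g ∈ stA, ∀ i, res g i ∈ S ↔ i ∈ S) :
    ∃ b : ℕ → ℕ, (∀ r, b r ≤ 1) ∧ S.ncard = b 0 + 10 * b 1 + 80 * b 11 + 640 * b 91 + 1024 * b 731 ∧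
      ∀ i : Fin 1755, i ∈ S ↔ b (subRoot i) = 1 := by
  classical
  let b : ℕ → ℕ := fun r => if h : r < 1755 then (if (⟨r, h⟩ : Fin 1755) ∈ S then 1 else 0) else 0
  have hmem : ∀ i : Fin 1755, i ∈ S ↔ b (subRoot i) = 1 := by
    intro i
    obtain ⟨g, hg, e⟩ := exists_of_root i
    simp only [b, dif_pos (subRoot_lt i.2)]
    conv_lhs => rw [← e]
    rw [hS g hg]
    split_ifs with h <;> simp [h]
  have hb : ∀ r, b r ≤ 1 := fun r => by simp only [b]; split_ifs <;> norm_num
  have hsum : S.ncard = ∑ i ∈ Finset.range 1755, b (subRoot i) := by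
    rw [Finset.sum_range,
      show S = ↑(Finset.univ.filter fun i => i ∈ S) from by ext; simp, Set.ncard_coe_finset]
    rw [Finset.card_filter]
    refine Finset.sum_congr rfl fun i _ => ?_
    by_cases h : i ∈ S
    · rw [if_pos h, (hmem i).1 h]
    · rw [if_neg h]
      have := hb (subRoot i)
      have := mt (hmem i).2 h
      omega
  refine ⟨b, hb, ?_, hmem⟩
  have hroots : ∀ r a n, a + n ≤ 1755 → (∀ k < n, subRoot (a + k) = r) →
      ∑ k ∈ Finset.range n, b (subRoot (a + k)) = n * b r := by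
    intro r a n _ hk
    rw [Finset.sum_congr rfl fun k hk' => by rw [hk k (Finset.mem_range.1 hk')],
      Finset.sum_const, Finset.card_range, smul_eq_mul]
  rw [hsum, show 1755 = 1 + 10 + 80 + 640 + 1024 from rfl, Finset.sum_range_add,
    Finset.sum_range_add, Finset.sum_range_add, Finset.sum_range_add, Finset.sum_range_one,
    hroots 1 1 10 (by norm_num) (by decide +kernel),
    hroots 11 (1 + 10) 80 (by norm_num) (by decide +kernel),
    hroots 91 (1 + 10 + 80) 640 (by norm_num) (by decide +kernel),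
    hroots 731 (1 + 10 + 80 + 640) 1024 (by norm_num) (by decide +kernel)]
  rfl

theorem root_zero (i : Fin 1755) : subRoot i = 0 ↔ i = p0 := by
  constructor
  · intro h
    refine Fin.ext ?_
    show i.1 = 0
    by_contra hne
    have : allR 1755 (fun k => Nat.beq k 0 || !Nat.beq (subRoot k) 0) 11 0 = true := by
      decide +kernel
    have h' := allR_zero this (by norm_num) i.1 i.2
    rw [h, show Nat.beq i.1 0 = false from Bool.eq_false_iff.2 fun e => hne (Nat.eq_of_beq_eq_true e)]
      at h'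
    exact Bool.false_ne_true h'
  · rintro rfl
    decide +kernel

theorem R_zero_root (i : Fin 1755) : R 0 i = true ↔ subRoot i = 1 ∨ subRoot i = 11 ∨ subRoot i = 91 := by
  rw [R_zero i.2]
  have : allR 1755 (fun k => beqB (Nat.blt 0 k && Nat.blt k 731)
      (Nat.beq (subRoot k) 1 || Nat.beq (subRoot k) 11 || Nat.beq (subRoot k) 91)) 11 0 = true := by
    decide +kernel
  have h := beqB_eq (allR_zero this (by norm_num) i.1 i.2)
  have h' := Bool.eq_iff_iff.1 h
  simp only [Bool.and_eq_true, Bool.or_eq_true, Nat.blt_eq, Nat.beq_eq] at h'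
  exact h'.trans or_assoc

/-- The local structure of a rank 3 group. -/
theorem exists_cand [Fintype Ω] (hΩ : Fintype.card Ω = 4060) (G : Subgroup (Equiv.Perm Ω))
    [MulAction.IsPretransitive G Ω] (a b c : Ω) (μ0 : MulAction.stabilizer G a ≃* RK)
    (hb : (MulAction.orbit (MulAction.stabilizer G a) b).ncard = 1755)
    (hc : (MulAction.orbit (MulAction.stabilizer G a) c).ncard = 2304) :
    ∃ C : Cand Ω, C.G = G := by
  classical
  obtain ⟨Γ, lam, mu, hinv, hnb, hfar, hdeg, hlam, hmu, hlt, heq⟩ :=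
    CfsgLib.McLRec.exists_orbital_graph (G := G) a b c hb hc (by norm_num) (by norm_num)
      (by norm_num) (by rw [hΩ])
  -- normalise the identification of the stabiliser
  set B := MulAction.stabilizer (MulAction.stabilizer G a) b with hB
  have hBi : (B.map μ0.toMonoidHom).index = 1755 := by
    show (B.map (μ0 : MulAction.stabilizer G a →* RK)).index = 1755
    rw [Subgroup.index_map_equiv, hB, MulAction.index_stabilizer, hb]
  obtain ⟨g₀, hg₀⟩ := conj_stA hBi
  set μ := μ0.trans (MulAut.conj g₀⁻¹ : RK ≃* RK) with hμ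
  have hstab : ∀ x : MulAction.stabilizer G a, μ x ∈ stA ↔ x • b = b := by
    intro x
    have e1 : μ0 x ∈ B.map μ0.toMonoidHom ↔ x • b = b := by
      rw [Subgroup.mem_map_equiv, MulEquiv.symm_apply_apply, hB, MulAction.mem_stabilizer_iff]
    rw [← e1, hg₀, Subgroup.mem_pointwise_smul_iff_inv_smul_mem, hμ, MulEquiv.trans_apply, ← map_inv]
    exact Iff.rfl
  let L : RK →* G := (MulAction.stabilizer G a).subtype.comp μ.symm.toMonoidHom
  have L_a : ∀ k, L k • a = a := fun k => MulAction.mem_stabilizer_iff.1 (μ.symm k).2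
  have L_b : ∀ k, (L k • b = b ↔ k ∈ stA) := fun k => by
    rw [← μ.apply_symm_apply k, hstab, μ.apply_symm_apply]
    exact Iff.rfl
  choose sec hsec using exists_kw_orbit
  let pt : Fin 1755 → Ω := fun i => L (sec i) • b
  have pt_res : ∀ k : RK, pt (res k p0) = L k • b := by
    intro k
    show L (sec (res k p0)) • b = L k • b
    rw [smul_eq_iff_eq_inv_smul, ← map_inv, ← mul_smul, ← map_mul]
    refine ((L_b _).2 (mem_stA.2 ?_)).symm
    rw [map_mul, map_inv, Equiv.Perm.mul_apply]
    exact (Equiv.Perm.inv_eq_iff_eq).2 (hsec (res k p0)).symm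
  have pt_smul : ∀ (k : RK) (i : Fin 1755), L k • pt i = pt (res k i) := by
    intro k i
    conv_rhs => rw [← hsec i, ← Equiv.Perm.mul_apply, ← map_mul, pt_res, map_mul, mul_smul]
  have pt0 : pt p0 = b := by
    have := pt_res 1
    rwa [map_one, Equiv.Perm.one_apply, map_one, one_smul] at this
  have pt_inj : Function.Injective pt := by
    intro i j e
    have h : L ((sec j)⁻¹ * sec i) • b = b := by
      rw [map_mul, mul_smul, map_inv, inv_smul_eq_iff]
      exact e
    have h2 := mem_stA.1 ((L_b _).1 h)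
    rw [map_mul, map_inv, Equiv.Perm.mul_apply, Equiv.Perm.inv_eq_iff_eq, hsec, hsec] at h2
    exact h2
  have hrange : ∀ z, Γ.Adj a z ↔ ∃ i, pt i = z := by
    intro z
    rw [hnb]
    constructor
    · rintro ⟨x, rfl⟩
      refine ⟨res (μ x) p0, ?_⟩
      rw [pt_res]
      show (μ.symm (μ x)).1 • b = x • b
      rw [μ.symm_apply_apply]
      rfl
    · rintro ⟨i, rfl⟩
      exact ⟨μ.symm (sec i), rfl⟩
  have hadj : ∀ (k : RK) i j, Γ.Adj (pt (res k i)) (pt (res k j)) ↔ Γ.Adj (pt i) (pt j) :=
    fun k i j => by rw [← pt_smul, ← pt_smul, hinv]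
  -- the common neighbours of `a` and `b`
  set S : Set (Fin 1755) := {i | Γ.Adj (pt p0) (pt i)} with hS
  have hSinv : ∀ g ∈ stA, ∀ i, res g i ∈ S ↔ i ∈ S := fun g hg i => by
    show Γ.Adj _ _ ↔ Γ.Adj _ _
    conv_lhs => rw [← mem_stA.1 hg]
    exact hadj g p0 i
  have hScard : S.ncard = lam := by
    rw [← hlam a b ((hnb b).2 (MulAction.mem_orbit_self b)),
      ← Set.ncard_image_of_injective S pt_inj]
    congr 1
    ext z
    constructor
    · rintro ⟨i, hi, rfl⟩
      exact ⟨(hrange _).2 ⟨i, rfl⟩, pt0 ▸ hi⟩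
    · rintro ⟨h1, h2⟩
      obtain ⟨i, rfl⟩ := (hrange z).1 h1
      exact ⟨i, by rw [hS, Set.mem_ofPred_eq, pt0]; exact h2, rfl⟩
  obtain ⟨bb, hbb, hbsum, hbmem⟩ := card_union S hSinv
  have hb0 : bb 0 = 0 := by
    have h : bb (subRoot p0) ≠ 1 := fun e => Γ.irrefl ((hbmem p0).2 e)
    rw [show subRoot p0 = 0 from (root_zero p0).2 rfl] at h
    have := hbb 0
    omega
  have hmu0 : mu ≠ 0 := by
    intro h0
    have hclosed : ∀ x y, x ≠ y → ¬ Γ.Adj x y → ∀ z, ¬ (Γ.Adj x z ∧ Γ.Adj y z) := by
      intro x y hne hn z hz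
      have := hmu x y hne hn
      rw [h0, Set.ncard_eq_zero (Set.toFinite _)] at this
      exact (Set.eq_empty_iff_forall_notMem.1 this) z hz
    set N : Ω → Finset Ω := fun x => Finset.univ.filter fun z => Γ.Adj x z with hN
    have hcN : ∀ x, (N x).card = 1755 := fun x => by
      rw [← hdeg x, ← Set.ncard_coe_finset]
      simp [hN]
    have hne : (Finset.univ \ insert a (N a)).Nonempty := by
      rw [← Finset.card_pos, Finset.card_univ_sdiff, hΩ]
      have := Finset.card_insert_le a (N a)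
      rw [hcN] at this
      omega
    obtain ⟨z, hz⟩ := hne
    have hne2 : (Finset.univ \ (insert a (N a) ∪ insert z (N z))).Nonempty := by
      rw [← Finset.card_pos, Finset.card_univ_sdiff, hΩ]
      have h1 := Finset.card_insert_le a (N a)
      have h2 := Finset.card_insert_le z (N z)
      have h3 := Finset.card_union_le (insert a (N a)) (insert z (N z))
      rw [hcN] at h1 h2
      omega
    obtain ⟨z', hz'⟩ := hne2
    simp only [Finset.mem_sdiff, Finset.mem_univ, true_and, Finset.mem_union, Finset.mem_insert,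
      hN, Finset.mem_filter, not_or] at hz hz'
    have d1 : Disjoint (N a) (N z) := Finset.disjoint_left.2 fun x h1 h2 => by
      simp only [hN, Finset.mem_filter, Finset.mem_univ, true_and] at h1 h2
      exact hclosed a z (Ne.symm hz.1) hz.2 x ⟨h1, h2⟩
    have d2 : Disjoint (N a ∪ N z) (N z') := by
      rw [Finset.disjoint_union_left, Finset.disjoint_left, Finset.disjoint_left]
      constructor
      · intro x h1 h2
        simp only [hN, Finset.mem_filter, Finset.mem_univ, true_and] at h1 h2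
        exact hclosed a z' (Ne.symm hz'.1.1) hz'.1.2 x ⟨h1, h2⟩
      · intro x h1 h2
        simp only [hN, Finset.mem_filter, Finset.mem_univ, true_and] at h1 h2
        exact hclosed z z' (Ne.symm hz'.2.1) hz'.2.2 x ⟨h1, h2⟩
    have := Finset.card_le_univ ((N a ∪ N z) ∪ N z')
    rw [Finset.card_union_of_disjoint d2, Finset.card_union_of_disjoint d1, hcN, hcN, hcN, hΩ] at this
    omega
  have hvals : bb 1 = 1 ∧ bb 11 = 1 ∧ bb 91 = 1 ∧ bb 731 = 0 ∧ mu = 780 := by
    rw [hScard, hb0] at hbsum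
    have a1 := hbb 1
    have a2 := hbb 11
    have a3 := hbb 91
    have a4 := hbb 731
    interval_cases h1 : bb 1 <;> interval_cases h2 : bb 11 <;> interval_cases h3 : bb 91 <;>
      interval_cases h4 : bb 731 <;> norm_num at hbsum <;> rw [hbsum] at heq <;>
      norm_num at heq ⊢ <;> omega
  have hpt : ∀ i j : Fin 1755, Γ.Adj (pt i) (pt j) ↔ R i j = true := by
    intro i j
    obtain ⟨k, hk⟩ := exists_kw_orbit i
    obtain ⟨j', rfl⟩ := (res k).surjective j
    rw [← hk, hadj, R_res, show (p0 : Fin 1755).1 = 0 from rfl, R_zero_root]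
    show j' ∈ S ↔ _
    rw [hbmem]
    have hr := subRoot_lt j'.2
    have hcases : subRoot j' = 0 ∨ subRoot j' = 1 ∨ subRoot j' = 11 ∨ subRoot j' = 91 ∨
        subRoot j' = 731 := by
      unfold subRoot
      cases Nat.blt j'.1 1 <;> cases Nat.blt j'.1 11 <;> cases Nat.blt j'.1 91 <;>
        cases Nat.blt j'.1 731 <;> simp
    rcases hcases with h | h | h | h | h <;> rw [h] <;>
      simp [hb0, hvals.1, hvals.2.1, hvals.2.2.1, hvals.2.2.2.1]
  refine ⟨{
    G := G
    Γ := Γ
    a := a
    L := L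
    pt := pt
    L_inj := Subtype.val_injective.comp μ.symm.injective
    L_a := L_a
    L_surj := fun g hg => ⟨μ ⟨g, MulAction.mem_stabilizer_iff.2 hg⟩, by
      show (μ.symm (μ _)).1 = g
      rw [μ.symm_apply_apply]⟩
    inv := hinv
    trans := fun x => MulAction.exists_smul_eq G a x
    pt_inj := pt_inj
    adj_a := hrange
    pt_smul := pt_smul
    adj_pt := hpt
    far := fun z z' h0 h1 h0' h1' => by
      obtain ⟨x, rfl⟩ := hfar z h0 h1
      obtain ⟨y, rfl⟩ := hfar z' h0' h1'
      refine ⟨μ (y * x⁻¹), ?_⟩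
      show (μ.symm (μ (y * x⁻¹))).1 • _ = _
      rw [μ.symm_apply_apply, Subgroup.coe_mul, Subgroup.coe_inv, mul_smul]
      show y.1 • x.1⁻¹ • x.1 • c = y.1 • c
      rw [inv_smul_smul]
    common := fun z h0 h1 => by
      rw [← hvals.2.2.2.2, ← hmu a z (Ne.symm h0) h1, ← Set.ncard_image_of_injective _ pt_inj]
      congr 1
      ext x
      constructor
      · rintro ⟨i, hi, rfl⟩
        exact ⟨(hrange _).2 ⟨i, rfl⟩, hi⟩
      · rintro ⟨p, q⟩
        obtain ⟨i, rfl⟩ := (hrange x).1 p
        exact ⟨i, q, rfl⟩ }, rfl⟩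

/-- The recognition. -/
theorem nonempty_ru [Fintype Ω] (hΩ : Fintype.card Ω = 4060) (G : Subgroup (Equiv.Perm Ω))
    [MulAction.IsPretransitive G Ω] (a b c : Ω) (μ0 : MulAction.stabilizer G a ≃* RK)
    (hb : (MulAction.orbit (MulAction.stabilizer G a) b).ncard = 1755)
    (hc : (MulAction.orbit (MulAction.stabilizer G a) c).ncard = 2304) :
    Nonempty (G ≃* Cfsg.Spor.Ru) := by
  obtain ⟨C, rfl⟩ := exists_cand hΩ G a b c μ0 hb hc
  obtain ⟨e⟩ := C.nonempty_mulEquiv modelCand common_prop
  exact ⟨e.trans ruEquiv.symm⟩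

end CfsgLib.RuRec
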