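import Cfsg.Agent.RuRec.Octagon
import Cfsg.Agent.RuRec.DataRows

/-!
# Adjacency to the 730 neighbours of the position `0`
-/

set_option autoImplicit false
set_option Elab.async false

namespace CfsgLib.RuRec

open CfsgLib.Ru

/-- The row of a position. -/
noncomputable def rowOf (i : ℕ) : ℕ :=
  ext rowTab 730 (Nat.sub (Nat.pow 2 730) 1) (Nat.sub i 1)

theorem okZeroRow : allR 1755 (fun j => beqB (R 0 j) (Nat.blt 0 j && Nat.blt j 731)) 11 0 = true :=
  by decide +kernel

theorem R_zero {j : ℕ} (hj : j < 1755) : R 0 j = true ↔ 1 ≤ j ∧ j < 731 := by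
  rw [beqB_eq (allR_zero okZeroRow (by norm_num) j hj), Bool.and_eq_true, Nat.blt_eq, Nat.blt_eq]
  exact Iff.rfl

theorem R_zero_succ {u : ℕ} (hu : u < 730) : R 0 (u + 1) = true :=
  (R_zero (by omega)).2 ⟨by omega, by omega⟩

/-- The rows of the starts of the suborbits. -/
noncomputable def okRoot (r : ℕ) : Bool :=
  force (rowOf r) fun row => allR 730 (fun u => beqB (R r (Nat.add u 1)) (bitB row u)) 10 0

theorem okRoot_all : (okRoot 1 && okRoot 11 && okRoot 91 && okRoot 731) = true := by
  decide +kernel

/-- The row of a slot follows from the row of its parent. -/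
noncomputable def okStep (k : ℕ) : Bool :=
  Nat.beq k (subRoot k) ||
  force (sV k) fun v => force (sV (sP k)) fun vp =>
    force (bif Nat.beq (sG k) 0 then eTab0 else bif Nat.beq (sG k) 1 then eTab1 else eTab2) fun T =>
      force (rowOf v) fun rv => force (rowOf vp) fun rp =>
        allR 730 (fun u =>
          beqB (bitB rv (Nat.sub (ext T 11 2047 (Nat.add u 1)) 1)) (bitB rp u)) 10 0

theorem okStep_A : allR 440 okStep 9 0 = true := by decide +kernel

theorem okStep_B : allR 440 (fun k => okStep (Nat.add 440 k)) 9 0 = true := by decide +kernel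

theorem okStep_C : allR 440 (fun k => okStep (Nat.add 880 k)) 9 0 = true := by decide +kernel

theorem okStep_D : allR 435 (fun k => okStep (Nat.add 1320 k)) 9 0 = true := by decide +kernel

theorem okStep_all {k : ℕ} (hk : k < 1755) : okStep k = true := by
  rcases Nat.lt_or_ge k 440 with h | h
  · exact allR_zero okStep_A (by norm_num) k h
  rcases Nat.lt_or_ge k 880 with h' | h'
  · have := allR_zero okStep_B (by norm_num) (k - 440) (by omega)
    rwa [show Nat.add 440 (k - 440) = k from Nat.add_sub_cancel' h] at this
  rcases Nat.lt_or_ge k 1320 with h'' | h''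
  · have := allR_zero okStep_C (by norm_num) (k - 880) (by omega)
    rwa [show Nat.add 880 (k - 880) = k from Nat.add_sub_cancel' h'] at this
  · have := allR_zero okStep_D (by norm_num) (k - 1320) (by omega)
    rwa [show Nat.add 1320 (k - 1320) = k from Nat.add_sub_cancel' h''] at this

theorem sV_pos {k : ℕ} (hk : k < 1755) (h1 : 1 ≤ k) : 1 ≤ sV k := by
  by_contra h
  have e := (tree_spec hk).2.1
  rw [show sV k = 0 by omega] at e
  have : ∀ k < 1755, 1 ≤ k → subRoot k ≠ subRoot 0 := by
    have : allR 1755 (fun k => Nat.beq k 0 || !Nat.beq (subRoot k) (subRoot 0)) 11 0 = true := by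
      decide +kernel
    intro k hk h1 e
    have h := allR_zero this (by norm_num) k hk
    simp only [Bool.or_eq_true, Bool.not_eq_true'] at h
    rcases h with h | h
    · have := Nat.eq_of_beq_eq_true h; omega
    · rw [e] at h
      simp at h
  exact this k hk h1 e.symm

theorem subRoot_le {k : ℕ} (hk : k < 1755) : subRoot k ≤ k := by
  have : allR 1755 (fun k => Nat.ble (subRoot k) k) 11 0 = true := by decide +kernel
  exact Nat.le_of_ble_eq_true (allR_zero this (by norm_num) k hk)

/-- The tables of rows give adjacency to the 730 neighbours of `0`. -/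
theorem R_row {i : ℕ} (hi : i < 1755) (h1 : 1 ≤ i) {u : ℕ} (hu : u < 730) :
    R i (u + 1) = bitB (rowOf i) u := by
  have key : ∀ k, ∀ hk : k < 1755, 1 ≤ k → ∀ u < 730, R (sV k) (u + 1) = bitB (rowOf (sV k)) u := by
    intro k
    induction k using Nat.strong_induction_on with
    | _ k ih =>
      intro hk hk1 u hu
      rcases (tree_spec hk).2.2.2.2 with ⟨a, b⟩ | ⟨a, b, c⟩
      · rw [b]
        have hr : k = 1 ∨ k = 11 ∨ k = 91 ∨ k = 731 := by
          have : allR 1755 (fun k => Nat.beq k 0 || !Nat.beq k (subRoot k) || Nat.beq k 1 ||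
              Nat.beq k 11 || Nat.beq k 91 || Nat.beq k 731) 11 0 = true := by decide +kernel
          have h := allR_zero this (by norm_num) k hk
          rw [← a, show Nat.beq k k = true from Nat.beq_refl k] at h
          simp only [Bool.or_eq_true, Bool.not_true] at h
          rcases h with ((((h | h) | h) | h) | h) | h
          · exact absurd (Nat.eq_of_beq_eq_true h) (by omega)
          · exact absurd h Bool.false_ne_true
          all_goals
            have := Nat.eq_of_beq_eq_true h
            omega
        have h := okRoot_all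
        simp only [Bool.and_eq_true, okRoot, force_eq] at h
        obtain ⟨⟨⟨g1, g2⟩, g3⟩, g4⟩ := h
        rcases hr with rfl | rfl | rfl | rfl
        · exact beqB_eq (allR_zero g1 (by norm_num) u hu)
        · exact beqB_eq (allR_zero g2 (by norm_num) u hu)
        · exact beqB_eq (allR_zero g3 (by norm_num) u hu)
        · exact beqB_eq (allR_zero g4 (by norm_num) u hu)
      · have hp1 : 1 ≤ sP k := by
          by_contra h
          have h0 := sV_pos hk hk1
          have hp0 : sP k = 0 := by omega
          rw [hp0] at b c
          have e0 : sV 0 = 0 := by decide +kernel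
          have hfix : eT' (sG k) 0 = 0 := by
            unfold eT'
            cases Nat.beq (sG k) 0
            · rw [cond_false]
              cases Nat.beq (sG k) 1 <;> decide +kernel
            · rw [cond_true]; decide +kernel
          rw [e0, hfix] at c
          omega
        have hvp : sV (sP k) < 1755 := (tree_spec (a.trans hk)).1
        obtain ⟨e, he⟩ : ∃ e, e = kw (eW (sG k)) := ⟨_, rfl⟩
        -- the preimage of `u + 1`
        set j := (res e).symm ⟨u + 1, by omega⟩ with hj
        have ej : res e j = ⟨u + 1, by omega⟩ := Equiv.apply_symm_apply _ _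
        have e0 : res e p0 = p0 := he ▸ mem_stA.1 (eW_mem _)
        have hj0 : 1 ≤ j.1 ∧ j.1 < 731 := by
          refine (R_zero j.2).1 ?_
          have h := R_res e p0 j
          rw [e0, ej] at h
          exact h.symm.trans (R_zero_succ hu)
        obtain ⟨w, hw⟩ : ∃ w, j.1 = w + 1 := ⟨j.1 - 1, by omega⟩
        have hw' : w < 730 := by omega
        have hv : res e ⟨sV (sP k), hvp⟩ = ⟨sV k, (tree_spec hk).1⟩ :=
          Fin.ext (by rw [he, res_eW]; exact c)
        have h := R_res e ⟨sV (sP k), hvp⟩ j
        rw [hv, ej] at h
        simp only [hw] at h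
        rw [ih _ a (a.trans hk) hp1 w hw'] at h
        have hT : eT' (sG k) (w + 1) = u + 1 := by
          rw [← hw, ← res_eW, ← he, ej]
        have hs := okStep_all hk
        simp only [okStep, Bool.or_eq_true, force_eq] at hs
        rcases hs with hs | hs
        · have := Nat.eq_of_beq_eq_true hs
          have := subRoot_le (a.trans hk)
          omega
        have hs' := beqB_eq (allR_zero hs (by norm_num) w hw')
        rw [show ext _ 11 2047 (Nat.add w 1) = u + 1 from hT] at hs'
        rw [show R (sV k) (u + 1) = bitB (rowOf (sV (sP k))) w from h, ← hs',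
          show Nat.sub (u + 1) 1 = u from rfl]
  obtain ⟨h1', hr, h3, h4, -⟩ := tree_spec hi
  have hs1 : 1 ≤ sSlot i := by
    by_contra h
    rw [show sSlot i = 0 by omega] at h4
    have : sV 0 = 0 := by decide +kernel
    omega
  have := key (sSlot i) h3 hs1 u hu
  rwa [h4] at this

end CfsgLib.RuRec
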