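import Cfsg.Agent.RuRec.Exclusion

/-!
# The stabiliser of a far point

It is described inside the stabiliser of the base point, without reference to the group.
-/

set_option autoImplicit false
set_option Elab.async false

namespace CfsgLib.RuRec

open CfsgLib.Ru

/-- The generators of the stabiliser of a far point. -/
noncomputable def hGen (j : ℕ) : RK :=
  bif Nat.beq j 0 then kw (uQ.getD 0 []) * kw (uKap.getD 0 [])
  else kw (uQ.getD 1 []) * kw (uKap.getD 1 [])

/-- Their tables. -/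
noncomputable def hT' (j i : ℕ) : ℕ := ext (bif Nat.beq j 0 then hTab0 else hTab1) 11 2047 i

/-- The subgroup generated by them. -/
noncomputable def farH : Subgroup RK := Subgroup.closure (Set.range hGen)

theorem hTab_ok : allR 1755 (fun i =>
    Nat.beq (wi (uQ.getD 0 []) (wi (uKap.getD 0 []) i)) (hT' 0 i) &&
      Nat.beq (wi (uQ.getD 1 []) (wi (uKap.getD 1 []) i)) (hT' 1 i)) 11 0 = true := by
  decide +kernel

theorem res_hGen (j : ℕ) (i : Fin 1755) : (res (hGen j) i).1 = hT' j i := by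
  have h := allR_zero hTab_ok (by norm_num) i.1 i.2
  simp only [Bool.and_eq_true] at h
  have h0 := Nat.eq_of_beq_eq_true h.1
  have h1 := Nat.eq_of_beq_eq_true h.2
  unfold hGen hT' at *
  cases Nat.beq j 0
  · rw [cond_false, map_mul, Equiv.Perm.mul_apply, res_kw, res_kw]
    exact h1
  · rw [cond_true, map_mul, Equiv.Perm.mul_apply, res_kw, res_kw]
    exact h0

/-- The position of a slot of the orbit. -/
noncomputable def hV (s : ℕ) : ℕ := Nat.land (ext hOrd 24 16777215 s) 2047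

/-- The parent of a slot of the orbit. -/
noncomputable def hP (s : ℕ) : ℕ := Nat.land (Nat.shiftRight (ext hOrd 24 16777215 s) 11) 1023

/-- The generator of a slot of the orbit. -/
noncomputable def hG (s : ℕ) : ℕ := Nat.shiftRight (ext hOrd 24 16777215 s) 21

/-- The slot of a position. -/
noncomputable def hS (i : ℕ) : ℕ := ext hSlot 10 1023 i

/-- The positions adjacent to the far point. -/
noncomputable def hIn (i : ℕ) : Bool := Nat.blt (hS i) 780 && Nat.beq (hV (hS i)) i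

theorem hOrd_ok : allR 780 (fun s => Nat.blt (hV s) 1755 && Nat.beq (hS (hV s)) s &&
    ((Nat.beq s 0 && Nat.beq (hV s) 0) ||
      (Nat.blt (hP s) s && Nat.beq (hT' (hG s) (hV (hP s))) (hV s)))) 10 0 = true := by
  decide +kernel

theorem hOrd_spec {s : ℕ} (hs : s < 780) : hV s < 1755 ∧ hS (hV s) = s ∧
    ((s = 0 ∧ hV s = 0) ∨ (hP s < s ∧ hT' (hG s) (hV (hP s)) = hV s)) := by
  have h := allR_zero hOrd_ok (by norm_num) s hs
  simp only [Bool.and_eq_true, Bool.or_eq_true] at h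
  exact ⟨Nat.le_of_ble_eq_true h.1.1, Nat.eq_of_beq_eq_true h.1.2,
    h.2.imp (fun a => ⟨Nat.eq_of_beq_eq_true a.1, Nat.eq_of_beq_eq_true a.2⟩)
      fun a => ⟨Nat.le_of_ble_eq_true a.1, Nat.eq_of_beq_eq_true a.2⟩⟩

theorem hIn_card : {i : Fin 1755 | hIn i = true}.ncard = 780 := by
  have e : {i : Fin 1755 | hIn i = true} =
      Set.range fun s : Fin 780 => (⟨hV s, (hOrd_spec s.2).1⟩ : Fin 1755) := by
    ext i
    simp only [Set.mem_ofPred_eq, Set.mem_range, hIn, Bool.and_eq_true]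
    constructor
    · rintro ⟨h1, h2⟩
      exact ⟨⟨hS i, Nat.le_of_ble_eq_true h1⟩, Fin.ext (Nat.eq_of_beq_eq_true h2)⟩
    · rintro ⟨s, rfl⟩
      obtain ⟨-, h, -⟩ := hOrd_spec s.2
      simp only [h]
      exact ⟨Nat.ble_eq_true_of_le s.2, Nat.beq_refl _⟩
  rw [e, Set.ncard_range_of_injective, Nat.card_fin]
  intro s s' h
  have := congrArg (fun i : Fin 1755 => hS i.1) h
  simp only [(hOrd_spec s.2).2.1, (hOrd_spec s'.2).2.1] at this
  exact Fin.ext this

theorem exists_hIn {i : Fin 1755} (hi : hIn i = true) : ∃ h ∈ farH, res h p0 = i := by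
  have key : ∀ s, ∀ hs : s < 780, ∃ h ∈ farH, res h p0 = ⟨hV s, (hOrd_spec hs).1⟩ := by
    intro s
    induction s using Nat.strong_induction_on with
    | _ s ih =>
      intro hs
      rcases (hOrd_spec hs).2.2 with ⟨-, h2⟩ | ⟨h1, h2⟩
      · exact ⟨1, farH.one_mem, Fin.ext (by rw [map_one]; exact h2.symm)⟩
      · obtain ⟨h, hh, e⟩ := ih _ h1 (h1.trans hs)
        refine ⟨hGen (hG s) * h, farH.mul_mem (Subgroup.subset_closure ⟨_, rfl⟩) hh, ?_⟩
        refine Fin.ext ?_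
        rw [map_mul, Equiv.Perm.mul_apply, e, res_hGen]
        exact h2
  simp only [hIn, Bool.and_eq_true] at hi
  obtain ⟨h, hh, e⟩ := key _ (Nat.le_of_ble_eq_true hi.1)
  exact ⟨h, hh, e.trans (Fin.ext (Nat.eq_of_beq_eq_true hi.2))⟩

/-- The stabiliser of the far point, described canonically. -/
def farW : Set RK :=
  {k | ∃ h ∈ farH, ∃ q : stA, (q : RK) = h⁻¹ * k ∧
    ∃ p : stA, res p.1 ⟨731, by norm_num⟩ = ⟨731, by norm_num⟩ ∧ PN q = r0 * PN p * r0⁻¹}

/-- The check of one generator. -/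
noncomputable def okU (j : ℕ) : Bool :=
  force (rowOf 731) fun r1 => force (uOk.getD j 0) fun ok => force (uPts.getD j 0) fun uc =>
    Nat.blt ok 1755 && Nat.blt 730 ok && Nat.blt uc 730 &&
    Nat.beq (wi (uKap.getD j []) (Nat.add uc 1)) 0 && bitB r1 (rInv 0 uc) &&
    Nat.beq (wi (uP.getD j []) 0) 0 && Nat.beq (wi (uQ.getD j []) 0) 0 &&
    Nat.beq (wi (uP.getD j []) 731) ok &&
    allR 730 (fun u => Nat.beq
      (wi (uQ.getD j []) (Nat.add (pT r0Tab (Nat.sub (wi (uP.getD j []) (Nat.add u 1)) 1)) 1))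
      (Nat.add (pT r0Tab u) 1)) 10 0 &&
    (uTests.getD j []).all (fun d => Nat.blt d 730 && Nat.blt 0 (wi (uKap.getD j []) (Nat.add d 1)) &&
      Nat.blt (wi (uKap.getD j []) (Nat.add d 1)) 731) &&
    allR 1024 (fun k => Nat.beq (Nat.add 731 k) ok ||
      force (rowOf (Nat.add 731 k)) fun row => (uTests.getD j []).any fun d =>
        !beqB (bitB row (rInv 0 (Nat.sub (wi (uKap.getD j []) (Nat.add d 1)) 1)))
          (bitB r1 (rInv 0 d))) 10 0

theorem okU_all : ∀ j < 2, okU j = true := by decide +kernel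

theorem repN_zero : repN 0 = r0 := by
  rw [repN, Nat.zero_mod, Nat.zero_div, pow_zero, em_zero, mul_one, mul_one]

namespace Cand

variable {Ω : Type*} (C : Cand Ω)

/-- Conjugation by the exchange. -/
theorem conj_swap {t : C.G} (h : C.Swap r0.1 t) (g : stA) :
    ∃ q : stA, C.L q.1 = t * C.L g.1 * t⁻¹ ∧ PN q = r0 * PN g * r0⁻¹ := by
  have h0 : res g.1 p0 = p0 := mem_stA.1 g.2
  have ta' : t⁻¹ • C.a = C.pt p0 := by rw [inv_smul_eq_iff, h.tp]
  have tp' : t⁻¹ • C.pt p0 = C.a := by rw [inv_smul_eq_iff, h.ta]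
  obtain ⟨k, hk⟩ := C.L_surj (t * C.L g.1 * t⁻¹) (by
    rw [mul_smul, mul_smul, ta', C.pt_smul, h0, h.tp])
  have hkA : k ∈ stA := by
    refine mem_stA.2 (C.pt_inj ?_)
    rw [← C.pt_smul, hk, mul_smul, mul_smul, tp', C.L_a, h.ta]
  refine ⟨⟨k, hkA⟩, hk, ?_⟩
  have e : PN ⟨k, hkA⟩ * r0 = r0 * PN g := by
    refine Subtype.ext (Equiv.ext fun u => Fin.ext (Nat.add_right_cancel (m := 1) ?_))
    have h1 : C.L k • C.pt ⟨(r0.1 u).1 + 1, by omega⟩ =
        C.pt ⟨(r0.1 ((PN g).1 u)).1 + 1, by omega⟩ := by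
      rw [← h.tn, ← h.tn, ← mul_smul, hk, inv_mul_cancel_right, mul_smul, C.pt_smul, PN_spec]
    rw [C.pt_smul, PN_spec ⟨k, hkA⟩] at h1
    exact congrArg Fin.val (C.pt_inj h1)
  rw [← e, mul_inv_cancel_right]

theorem L_pt_adj' (k : RK) (z : Ω) (i : Fin 1755) :
    C.Γ.Adj (C.L k • z) (C.pt (res k i)) ↔ C.Γ.Adj z (C.pt i) := by
  rw [← C.pt_smul, C.inv]

section

variable {t : C.G} (h : C.Swap r0.1 t)

include h

/-- Conjugates inside the stabiliser are determined by their action on the common neighbours. -/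
theorem tpt_eq (p q : stA) (e : PN q = r0 * PN p * r0⁻¹) :
    C.L q.1 • t • C.pt ⟨731, by norm_num⟩ = t • C.pt (res p.1 ⟨731, by norm_num⟩) := by
  obtain ⟨q', e1, e2⟩ := C.conj_swap h p
  rw [PN_injective (e.trans e2.symm), e1, mul_smul, mul_smul, inv_smul_smul, C.pt_smul]

theorem hGen_fix (j : ℕ) : C.L (hGen j) • t • C.pt ⟨731, by norm_num⟩ =
    t • C.pt ⟨731, by norm_num⟩ := by
  have key : ∀ j < 2, C.L (kw (uQ.getD j []) * kw (uKap.getD j [])) •
      t • C.pt ⟨731, by norm_num⟩ = t • C.pt ⟨731, by norm_num⟩ := by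
    intro j hj
    have hb := okU_all j hj
    simp only [okU, force_eq, Bool.and_eq_true] at hb
    obtain ⟨⟨⟨⟨⟨⟨⟨⟨⟨⟨a1, a2⟩, a3⟩, a4⟩, a5⟩, a6⟩, a7⟩, a8⟩, a9⟩, a10⟩, a11⟩ := hb
    have hok : uOk.getD j 0 < 1755 := Nat.le_of_ble_eq_true a1
    have hok' : 730 < uOk.getD j 0 := Nat.le_of_ble_eq_true a2
    have hu : uPts.getD j 0 < 730 := Nat.le_of_ble_eq_true a3
    set x := t • C.pt ⟨731, by norm_num⟩ with hx
    set k := kw (uKap.getD j []) with hk
    obtain ⟨hfar, -⟩ := C.swap_outer h (o := ⟨731, by norm_num⟩) (le_refl _)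
    have hk0 : res k ⟨uPts.getD j 0 + 1, by omega⟩ = p0 :=
      Fin.ext ((res_kw _ _).trans (Nat.eq_of_beq_eq_true a4))
    have hrow : ∀ {o : Fin 1755}, 731 ≤ o.1 → ∀ u : Fin 730,
        C.Γ.Adj (t • C.pt o) (C.pt ⟨u + 1, by omega⟩) ↔
          bitB (rowOf o) (rInv 0 u) = true := by
      intro o ho u
      rw [← rInv_spec (by norm_num : 0 < 64), repN_zero]
      exact C.swap_row' h ho u
    have hgx0 : C.Γ.Adj (C.L k • x) (C.pt p0) := by
      rw [← hk0, L_pt_adj']
      exact (hrow (o := ⟨731, by norm_num⟩) (le_refl _) ⟨_, hu⟩).2 a5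
    obtain ⟨o, ho, eo⟩ := C.exists_outer h (C.far_L k hfar) hgx0
    have ho_eq : o.1 = uOk.getD j 0 := by
      have hd := allR_zero a11 (by norm_num) (o.1 - 731) (by omega)
      rw [show Nat.add 731 (o.1 - 731) = o.1 from Nat.add_sub_cancel' ho, Bool.or_eq_true] at hd
      rcases hd with hd | hd
      · exact Nat.eq_of_beq_eq_true hd
      exfalso
      rw [List.any_eq_true] at hd
      obtain ⟨d, hd1, hd2⟩ := hd
      simp only [List.all_eq_true, Bool.and_eq_true] at a10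
      obtain ⟨⟨g1, g2⟩, g3⟩ := a10 d hd1
      have hd730 : d < 730 := Nat.le_of_ble_eq_true g1
      obtain ⟨v, hv⟩ : ∃ v, v = wi (uKap.getD j []) (d + 1) := ⟨_, rfl⟩
      have hv1 : 0 < v := hv ▸ Nat.le_of_ble_eq_true g2
      have hv2 : v < 731 := hv ▸ Nat.le_of_ble_eq_true g3
      have ev : res k ⟨d + 1, by omega⟩ = ⟨(⟨v - 1, by omega⟩ : Fin 730).1 + 1, by omega⟩ := by
        refine Fin.ext ((res_kw _ _).trans ?_)
        show wi (uKap.getD j []) (d + 1) = v - 1 + 1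
        omega
      have key : bitB (rowOf o) (rInv 0 (v - 1)) = true ↔
          bitB (rowOf 731) (rInv 0 d) = true := by
        rw [← hrow (o := ⟨731, by norm_num⟩) (le_refl _) ⟨d, hd730⟩, ← hrow ho ⟨v - 1, by omega⟩,
          eo, ← ev, L_pt_adj']
      rw [show Nat.sub (wi (uKap.getD j []) (Nat.add d 1)) 1 = v - 1 from by rw [hv]; rfl,
        Bool.eq_iff_iff.2 key] at hd2
      revert hd2
      cases bitB (rowOf 731) (rInv 0 d) <;> simp [beqB]
    let p : stA := ⟨kw (uP.getD j []),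
      mem_stA.2 (Fin.ext ((res_kw _ p0).trans (Nat.eq_of_beq_eq_true a6)))⟩
    let qi : stA := ⟨kw (uQ.getD j []),
      mem_stA.2 (Fin.ext ((res_kw _ p0).trans (Nat.eq_of_beq_eq_true a7)))⟩
    have hp731 : res p.1 ⟨731, by norm_num⟩ = o :=
      Fin.ext (((res_kw _ _).trans (Nat.eq_of_beq_eq_true a8)).trans ho_eq.symm)
    have hqi : PN qi * r0 * PN p = r0 := by
      refine Subtype.ext (Equiv.ext fun u => Fin.ext (Nat.add_right_cancel (m := 1) ?_))
      have e1 := congrArg Fin.val (PN_spec p u)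
      have e2 := congrArg Fin.val (PN_spec qi (r0.1 ((PN p).1 u)))
      simp only [p, qi, res_kw] at e1 e2
      have e3 := Nat.eq_of_beq_eq_true (allR_zero a9 (by norm_num) u.1 u.2)
      show ((PN qi).1 (r0.1 ((PN p).1 u))).1 + 1 = (r0.1 u).1 + 1
      rw [← e2]
      show _ = pT r0Tab u + 1
      have e4 : (r0.1 ((PN p).1 u)).1 = pT r0Tab ((PN p).1 u).1 := rfl
      rw [e4, show ((PN p).1 u).1 = Nat.sub (wi (uP.getD j []) (u.1 + 1)) 1 from by
        rw [e1]; rfl]
      exact e3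
    obtain ⟨q, hq1, hq2⟩ := C.conj_swap h p
    have hone : qi.1 * q.1 = 1 := by
      have : PN (qi * q) = 1 := by
        rw [map_mul, hq2, ← mul_assoc, ← mul_assoc, hqi, mul_inv_cancel]
      exact congrArg Subtype.val (PN_injective (this.trans (map_one PN).symm))
    rw [map_mul, mul_smul, show C.L k • x = C.L q.1 • x from by
        rw [← eo, ← hp731, ← C.tpt_eq h p q hq2],
      ← mul_smul, ← map_mul, show kw (uQ.getD j []) * q.1 = 1 from hone, map_one, one_smul]
  unfold hGen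
  cases Nat.beq j 0
  · exact key 1 (by norm_num)
  · exact key 0 (by norm_num)

theorem farH_fix {g : RK} (hg : g ∈ farH) : C.L g • t • C.pt ⟨731, by norm_num⟩ =
    t • C.pt ⟨731, by norm_num⟩ := by
  refine Subgroup.closure_induction (p := fun x _ => C.L x • t • C.pt ⟨731, by norm_num⟩ =
    t • C.pt ⟨731, by norm_num⟩) ?_ ?_ ?_ ?_ hg
  · rintro _ ⟨j, rfl⟩
    exact C.hGen_fix h j
  · rw [map_one, one_smul]
  · intro x y _ _ hx hy
    rw [map_mul, mul_smul, hy, hx]
  · intro x _ hx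
    rw [map_inv, inv_smul_eq_iff, hx]

/-- The neighbours of the far point. -/
theorem far_nbrs (i : Fin 1755) :
    C.Γ.Adj (t • C.pt ⟨731, by norm_num⟩) (C.pt i) ↔ hIn i = true := by
  obtain ⟨hfar, h0⟩ := C.swap_outer h (o := ⟨731, by norm_num⟩) (le_refl _)
  have hsub : {i : Fin 1755 | hIn i = true} ⊆
      {i | C.Γ.Adj (t • C.pt ⟨731, by norm_num⟩) (C.pt i)} := by
    intro i hi
    obtain ⟨g, hg, e⟩ := exists_hIn hi
    rw [Set.mem_ofPred_eq, ← e, ← C.farH_fix h hg, L_pt_adj']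
    exact h0
  have := Set.eq_of_subset_of_ncard_le hsub
    (by rw [hIn_card, C.common _ hfar.1 hfar.2]) (Set.toFinite _)
  exact (Set.ext_iff.1 this i).symm

/-- The stabiliser of the far point is the canonical set. -/
theorem fix_iff (k : RK) : C.L k • t • C.pt ⟨731, by norm_num⟩ = t • C.pt ⟨731, by norm_num⟩ ↔
    k ∈ farW := by
  constructor
  · intro hk
    have h0 := (C.swap_outer h (o := ⟨731, by norm_num⟩) (le_refl _)).2
    rw [← L_pt_adj' C k, hk, C.far_nbrs h] at h0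
    obtain ⟨g, hg, e⟩ := exists_hIn h0
    have hA : g⁻¹ * k ∈ stA := by
      rw [mem_stA, map_mul, Equiv.Perm.mul_apply, ← e, map_inv]
      exact perm_inv_apply _ _
    have hfix : C.L (g⁻¹ * k) • t • C.pt ⟨731, by norm_num⟩ = t • C.pt ⟨731, by norm_num⟩ := by
      rw [map_mul, mul_smul, hk, C.farH_fix h (farH.inv_mem hg)]
    -- the conjugate in the other direction
    have hqa : res (g⁻¹ * k) p0 = p0 := mem_stA.1 hA
    obtain ⟨p, hp⟩ := C.L_surj (t⁻¹ * C.L (g⁻¹ * k) * t) (by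
      rw [mul_smul, mul_smul, h.ta, C.pt_smul, hqa, inv_smul_eq_iff, h.ta])
    have hpA : p ∈ stA := by
      refine mem_stA.2 (C.pt_inj ?_)
      rw [← C.pt_smul, hp, mul_smul, mul_smul, h.tp, C.L_a, inv_smul_eq_iff, h.tp]
    have hp731 : res p ⟨731, by norm_num⟩ = ⟨731, by norm_num⟩ := by
      refine C.pt_inj ?_
      rw [← C.pt_smul, hp, mul_smul, mul_smul, hfix, inv_smul_smul]
    obtain ⟨q, hq1, hq2⟩ := C.conj_swap h ⟨p, hpA⟩
    have : q.1 = g⁻¹ * k := by
      refine C.L_inj ?_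
      rw [hq1, hp]
      group
    exact ⟨g, hg, q, this, ⟨p, hpA⟩, hp731, hq2⟩
  · rintro ⟨g, hg, q, hq, p, hp, e⟩
    rw [show k = g * q.1 by rw [hq, mul_inv_cancel_left], map_mul, mul_smul, C.tpt_eq h p q e, hp,
      C.farH_fix h hg]

end

end Cand

end CfsgLib.RuRec
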