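import Cfsg.Agent.RuRec.NGraph
import Mathlib.GroupTheory.Sylow

/-!
# The subgroups of index 1755 of the stabiliser are conjugate
-/

set_option autoImplicit false
set_option Elab.async false
set_option linter.style.haveILetI false

namespace CfsgLib.RuRec

open CfsgLib.Ru
open scoped Pointwise

/-- The number of the pair of a point. -/
def pidN (u : ℕ) : ℕ := pairList.getD u 0

/-- The representative of a pair. -/
def fstN (a : ℕ) : ℕ := pairFst.getD a 0

theorem pair_checks :
    (∀ u < 10, pidN u < 5 ∧ (fstN (pidN u) = u ∨ fstN (pidN u) = twN u) ∧ pidN (twN u) = pidN u) ∧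
    (∀ a < 5, fstN a < 10 ∧ pidN (fstN a) = a) ∧
      fstN 0 = 0 ∧ twN 0 = 9 ∧ pidN 0 = 0 := by
  decide +kernel

theorem pid_congr {π : Equiv.Perm (Fin 730)} (hπ : π ∈ NAut) (u : Fin 730) (hu : u.1 < 10) :
    pidN (π u) = pidN (π ⟨fstN (pidN u), by
      have := (pair_checks.2.1 _ (pair_checks.1 u hu).1).1; omega⟩) := by
  rcases (pair_checks.1 u hu).2.1 with h | h
  · congr 3
    exact Fin.ext h.symm
  · have e := twin_inv hπ u hu
    have : (π ⟨twN u, by have := (twin_checks.2.1 u hu).1; omega⟩) =
        π ⟨fstN (pidN u), by have := (pair_checks.2.1 _ (pair_checks.1 u hu).1).1; omega⟩ :=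
      congrArg π (Fin.ext h.symm)
    rw [← this, e, (pair_checks.1 _ ((lt_ten hπ u).2 hu)).2.2]

/-- The image of a pair. -/
noncomputable def pairFun (π : NAut) (a : Fin 5) : Fin 5 :=
  ⟨pidN (π.1 ⟨fstN a, by have := (pair_checks.2.1 a a.2).1; omega⟩),
    (pair_checks.1 _ ((lt_ten π.2 _).2 (pair_checks.2.1 a a.2).1)).1⟩

theorem pairFun_mul (π σ : NAut) (a : Fin 5) : pairFun (π * σ) a = pairFun π (pairFun σ a) :=
  Fin.ext (pid_congr π.2 _ ((lt_ten σ.2 _).2 (pair_checks.2.1 a a.2).1))

theorem pairFun_one (a : Fin 5) : pairFun 1 a = a := Fin.ext (pair_checks.2.1 a a.2).2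

/-- The action on the five pairs of twins. -/
noncomputable def pairHom : NAut →* Equiv.Perm (Fin 5) where
  toFun g :=
    { toFun := pairFun g
      invFun := pairFun g⁻¹
      left_inv := fun i => by rw [← pairFun_mul, inv_mul_cancel, pairFun_one]
      right_inv := fun i => by rw [← pairFun_mul, mul_inv_cancel, pairFun_one] }
  map_one' := Equiv.ext pairFun_one
  map_mul' g h := Equiv.ext (pairFun_mul g h)

theorem exists_kw_orbit (i : Fin 1755) : ∃ g : RK, res g p0 = i := by
  obtain ⟨⟨t, ht⟩, e⟩ := (mem_orbit_iff (oLine i)).2 (oLine_code i.2)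
  refine ⟨⟨im t, MulAction.mem_stabilizer_iff.2 ((im_smul _ _).trans (fix_ln0 (T1_le ht)))⟩, ?_⟩
  refine Fin.ext (oLine_inj (Fin.is_lt _) i.2 ?_)
  rw [oLine_res]
  show im t • oLine p0.1 = oLine i
  rw [im_smul, show oLine p0.1 = ln1 from by
    show mkLn (oL 0) = mkLn 1
    rw [show oL 0 = 1 by decide +kernel]]
  exact e

theorem card_orbit_mul {G : Type*} [Group G] {α : Type*} [MulAction G α] [Finite α] {a : α}
    (h : ∀ b, ∃ g : G, g • a = b) :
    Nat.card α * Nat.card (MulAction.stabilizer G a) = Nat.card G := by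
  have e := MulAction.index_stabilizer (G := G) a
  rw [show MulAction.orbit G a = Set.univ from Set.eq_univ_of_forall h, Set.ncard_univ] at e
  rw [← e, mul_comm]
  exact Subgroup.card_mul_index _

theorem card_stA : Nat.card stA = 20480 := by
  letI : MulAction RK (Fin 1755) := MulAction.compHom _ res
  have e : stA = MulAction.stabilizer RK p0 := rfl
  have h := card_orbit_mul (G := RK) (a := p0) exists_kw_orbit
  rw [Nat.card_fin, ← e, show Nat.card RK = 35942400 from card_stab] at h
  omega

/-- The stabiliser of a pair of twins in the stabiliser of `0`. -/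
noncomputable def pairStab : Subgroup stA :=
  (MulAction.stabilizer (Equiv.Perm (Fin 5)) (0 : Fin 5)).comap (pairHom.comp PN)

theorem card_pairStab : Nat.card pairStab = 4096 := by
  letI : MulAction stA (Fin 5) := MulAction.compHom _ (pairHom.comp PN)
  have e : pairStab = MulAction.stabilizer stA (0 : Fin 5) := rfl
  have h := card_orbit_mul (G := stA) (a := (0 : Fin 5)) fun a => by
    have hf := (pair_checks.2.1 a a.2).1
    obtain ⟨g, hg, he⟩ := exists_of_root ⟨fstN a + 1, by omega⟩
    refine ⟨⟨g, hg⟩, Fin.ext ?_⟩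
    have hr : subRoot (fstN a + 1) = 1 := by
      have : ∀ k < 10, subRoot (k + 1) = 1 := by decide +kernel
      exact this _ hf
    have h := PN_spec ⟨g, hg⟩ ⟨0, by norm_num⟩
    simp only [hr] at he
    rw [he] at h
    show pidN ((PN ⟨g, hg⟩).1 ⟨fstN 0, _⟩) = a
    simp only [pair_checks.2.2.1]
    rw [← show fstN a = ((PN ⟨g, hg⟩).1 ⟨0, by norm_num⟩).1 from
      Nat.add_right_cancel (congrArg Fin.val h)]
    exact (pair_checks.2.1 a a.2).2
  rw [Nat.card_fin, ← e, card_stA] at h
  omega

/-- The Sylow subgroup. -/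
noncomputable def syl : Subgroup RK := pairStab.map stA.subtype

theorem card_syl : Nat.card syl = 4096 := by
  rw [syl, Subgroup.card_map_of_injective stA.subtype_injective, card_pairStab]

theorem syl_le : syl ≤ stA := Subgroup.map_subtype_le _

/-- The words of elements of the Sylow subgroup with many images. -/
noncomputable def sImgs (x : ℕ) : List ℕ := x :: sWords.map fun w => wi w x

theorem sWords_checks : (∀ w ∈ sWords, wi w 0 = 0 ∧ (wi w 1 = 1 ∨ wi w 1 = 10)) ∧
    allR 1755 (fun x => Nat.beq x 0 || Nat.beq x 1 || Nat.beq x 10 ||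
      Nat.ble 5 (sImgs x).dedup.length) 11 0 = true := by
  decide +kernel

theorem sWords_mem {w : List ℕ} (hw : w ∈ sWords) : kw w ∈ syl := by
  obtain ⟨h0, h1⟩ := sWords_checks.1 w hw
  have hA : kw w ∈ stA := mem_stA.2 (Fin.ext ((res_kw w p0).trans h0))
  refine ⟨⟨kw w, hA⟩, ?_, rfl⟩
  refine Fin.ext ?_
  show pidN ((PN ⟨kw w, hA⟩).1 ⟨fstN 0, _⟩) = 0
  simp only [pair_checks.2.2.1]
  have h := congrArg Fin.val (PN_spec ⟨kw w, hA⟩ ⟨0, by norm_num⟩)
  rw [res_kw] at h
  simp only at h
  rcases h1 with h1 | h1 <;> rw [show (0 : ℕ) + 1 = 1 from rfl, h1] at h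
  · rw [show ((PN ⟨kw w, hA⟩).1 ⟨0, _⟩).1 = 0 by omega]
    exact pair_checks.2.2.2.2
  · rw [show ((PN ⟨kw w, hA⟩).1 ⟨0, _⟩).1 = 9 by omega, ← pair_checks.2.2.2.1,
      (pair_checks.1 0 (by norm_num)).2.2]
    exact pair_checks.2.2.2.2

/-- A subgroup of order 20480 through the Sylow subgroup is the stabiliser of `0`. -/
theorem eq_stA_of_syl {B : Subgroup RK} (hB : Nat.card B = 20480) (hS : syl ≤ B) : B = stA := by
  classical
  letI : MulAction RK (Fin 1755) := MulAction.compHom _ res
  letI : MulAction B (Fin 1755) := MulAction.compHom _ (res.comp B.subtype)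
  have hmul := Subgroup.card_mul_index (MulAction.stabilizer B p0)
  rw [MulAction.index_stabilizer, hB] at hmul
  have hcard : Nat.card (MulAction.stabilizer B p0) = Nat.card (B ⊓ stA : Subgroup RK) := by
    refine Nat.card_congr ⟨fun g => ⟨g.1.1, g.1.2, g.2⟩, fun g => ⟨⟨g.1, g.2.1⟩, g.2.2⟩,
      fun _ => rfl, fun _ => rfl⟩
  have h4096 : 4096 ∣ Nat.card (MulAction.stabilizer B p0) := by
    rw [hcard, ← card_syl]
    exact Subgroup.card_dvd_of_le (le_inf hS syl_le)
  obtain ⟨k, hk⟩ := h4096
  rw [hk, mul_assoc, show 20480 = 4096 * 5 from rfl] at hmul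
  have hko := Nat.eq_of_mul_eq_mul_left (by norm_num) hmul
  have h5 : k ∣ 5 := ⟨_, hko.symm⟩
  rcases (Nat.dvd_prime (by norm_num)).1 h5 with hk1 | hk5
  · exfalso
    rw [hk1, one_mul] at hko
    have hsub : ∀ x ∈ MulAction.orbit B p0, x.1 = 0 ∨ x.1 = 1 ∨ x.1 = 10 := by
      intro x hx
      by_contra hc
      push Not at hc
      have hd := allR_zero sWords_checks.2 (by norm_num) x.1 x.2
      simp only [Bool.or_eq_true] at hd
      have h5 : 5 ≤ (sImgs x).dedup.length := by
        rcases hd with ((hd | hd) | hd) | hd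
        · exact absurd (Nat.eq_of_beq_eq_true hd) hc.1
        · exact absurd (Nat.eq_of_beq_eq_true hd) hc.2.1
        · exact absurd (Nat.eq_of_beq_eq_true hd) hc.2.2
        · exact Nat.le_of_ble_eq_true hd
      have hmem : (0 :: sImgs x).toFinset ⊆
          ((MulAction.orbit B p0).toFinset.image Fin.val) := by
        intro y hy
        rw [List.mem_toFinset] at hy
        simp only [sImgs, List.mem_cons, List.mem_map] at hy
        rw [Finset.mem_image]
        rcases hy with rfl | rfl | ⟨w, hw, rfl⟩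
        · exact ⟨p0, Set.mem_toFinset.2 (MulAction.mem_orbit_self _), rfl⟩
        · exact ⟨x, Set.mem_toFinset.2 hx, rfl⟩
        · refine ⟨(⟨kw w, hS (sWords_mem hw)⟩ : B) • x, Set.mem_toFinset.2 ?_, res_kw w x⟩
          exact MulAction.mem_orbit_of_mem_orbit _ hx
      have h0 : (0 : ℕ) ∉ (sImgs x).toFinset := by
        rw [List.mem_toFinset]
        simp only [sImgs, List.mem_cons, List.mem_map, not_or, not_exists, not_and]
        refine ⟨fun e => hc.1 e.symm, fun w hw e => hc.1 ?_⟩
        have e1 : res (kw w) x = res (kw w) p0 := by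
          refine Fin.ext ?_
          rw [res_kw, res_kw]
          exact e.trans (sWords_checks.1 w hw).1.symm
        exact congrArg Fin.val ((res (kw w)).injective e1)
      have := Finset.card_le_card hmem
      rw [List.toFinset_cons, Finset.card_insert_of_notMem h0, List.card_toFinset] at this
      have h2 := Finset.card_image_le (s := (MulAction.orbit B p0).toFinset) (f := Fin.val)
      rw [← Set.ncard_eq_toFinset_card'] at h2
      omega
    have h3 : (MulAction.orbit B p0).ncard ≤ ({0, 1, 10} : Finset (Fin 1755)).card := by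
      rw [← Set.ncard_coe_finset]
      refine Set.ncard_le_ncard (fun x hx => ?_) (Set.toFinite _)
      simp only [Finset.coe_insert, Finset.coe_singleton, Set.mem_insert_iff, Set.mem_singleton_iff]
      rcases hsub x hx with h | h | h
      · exact Or.inl (Fin.ext h)
      · exact Or.inr (Or.inl (Fin.ext h))
      · exact Or.inr (Or.inr (Fin.ext h))
    have h4 : ({0, 1, 10} : Finset (Fin 1755)).card ≤ 3 := Finset.card_le_three
    omega
  · have hle : B ≤ stA := by
      intro g hg
      have htop : MulAction.stabilizer B p0 = ⊤ :=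
        Subgroup.eq_top_of_card_eq _ (by rw [hk, hk5, hB])
      exact (htop ▸ Subgroup.mem_top (⟨g, hg⟩ : B) : (⟨g, hg⟩ : B) ∈ MulAction.stabilizer B p0)
    exact Subgroup.eq_of_le_of_card_ge hle (by rw [hB, card_stA])

theorem conj_stA {B : Subgroup RK} (hB : B.index = 1755) :
    ∃ g : RK, B = MulAut.conj g • stA := by
  haveI : Fact (Nat.Prime 2) := ⟨Nat.prime_two⟩
  have hcB : Nat.card B = 20480 := by
    have h := Subgroup.card_mul_index B
    rw [hB, show Nat.card RK = 35942400 from card_stab] at h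
    omega
  have hp : 2 ^ (Nat.card RK).factorization 2 = 4096 := by
    rw [show Nat.card RK = 2 ^ 12 * 8775 from card_stab, Nat.factorization_mul (by norm_num)
      (by norm_num), Finsupp.add_apply, Nat.prime_two.factorization_pow, Finsupp.single_eq_same,
      Nat.factorization_eq_zero_of_not_dvd (by norm_num)]
    rfl
  obtain ⟨K, hK⟩ := Sylow.exists_subgroup_card_pow_prime 2 (G := B) (n := 12)
    (by rw [hcB]; norm_num)
  have hK' : Nat.card (K.map B.subtype) = 2 ^ (Nat.card RK).factorization 2 := by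
    rw [Subgroup.card_map_of_injective B.subtype_injective, hK, hp]
    norm_num
  let P : Sylow 2 RK := Sylow.ofCard _ hK'
  let Q : Sylow 2 RK := Sylow.ofCard syl (by rw [card_syl, hp])
  obtain ⟨g, hg⟩ := MulAction.exists_smul_eq RK P Q
  have hconj : MulAut.conj g • (K.map B.subtype) = syl := by
    have := congrArg Sylow.toSubgroup hg
    simpa [P, Q, Sylow.coe_subgroup_smul] using this
  have hle : syl ≤ MulAut.conj g • B := by
    rw [← hconj]
    exact Subgroup.pointwise_smul_le_pointwise_smul_iff.2 (Subgroup.map_subtype_le K)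
  have hc : Nat.card (MulAut.conj g • B : Subgroup RK) = 20480 := by
    rw [← hcB]
    exact (Nat.card_congr (Subgroup.equivSMul (MulAut.conj g) B).toEquiv).symm
  refine ⟨g⁻¹, ?_⟩
  rw [← eq_stA_of_syl hc hle, smul_smul, ← map_mul, inv_mul_cancel, map_one, one_smul]

end CfsgLib.RuRec
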