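import Cfsg.Agent.RuRec.Stabilizer
import Mathlib.Algebra.Group.End

/-!
# Two groups with the local structure of the Rudvalis group are the same
-/

set_option autoImplicit false
set_option Elab.async false

namespace CfsgLib.RuRec

open CfsgLib.Ru

/-- Two positions adjacent to the canonical far point can be related. -/
def CommonProp : Prop := ∀ k : RK, ∃ i : Fin 1755, hIn i = true ∧ hIn (res k i) = true

/-- Outer positions are determined by their rows. -/
theorem outer_uniq {o o' : Fin 1755} (ho : 731 ≤ o.1) (ho' : 731 ≤ o'.1)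
    (h : rowOf o = rowOf o') : o' = o := by
  obtain ⟨k, hk, e⟩ := exists_of_root o
  have hr : subRoot o.1 = 731 := by
    unfold subRoot
    rw [blt_false (by omega), blt_false (by omega), blt_false (by omega), blt_false (by omega)]
    rfl
  simp only [hr] at e
  set o'' := (res k).symm o' with ho''
  have ek : res k o'' = o' := Equiv.apply_symm_apply _ _
  have hkinv : res k⁻¹ o' = o'' := by rw [map_inv]; rfl
  have h731' : 731 ≤ o''.1 := hkinv ▸ outer_of (stA.inv_mem hk) ho'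
  have hrow : rowOf o'' = rowOf 731 := rowOf_ext fun u hu => by
    have a1 := row_res ⟨k, hk⟩ o'' (by omega) (by rw [ek]; omega) ⟨u, hu⟩
    have a2 := row_res ⟨k, hk⟩ ⟨731, by norm_num⟩ (by norm_num) (by rw [e]; omega) ⟨u, hu⟩
    rw [ek, ← h] at a1
    rw [e] at a2
    exact a1.symm.trans a2
  have hu := allR_zero row_uniq (by norm_num) (o''.1 - 731) (by omega)
  rw [show Nat.add 731 (o''.1 - 731) = o''.1 from Nat.add_sub_cancel' h731', hrow, Nat.beq_refl,
    Bool.not_true, Bool.or_false] at hu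
  have : o''.1 = 731 := by
    have := Nat.eq_of_beq_eq_true hu
    omega
  rw [← ek, show o'' = (⟨731, by norm_num⟩ : Fin 1755) from Fin.ext this, e]

namespace Cand

universe u v

variable {Ω : Type u} {Ω' : Type v} (C : Cand Ω) (D : Cand Ω')

/-- The exchange. -/
noncomputable def t : C.G := C.exists_r0.choose

theorem t_spec : C.Swap r0.1 C.t := C.exists_r0.choose_spec

/-- The far point. -/
noncomputable def w : Ω := C.t • C.pt ⟨731, by norm_num⟩

theorem w_far : C.Far C.w := (C.swap_outer C.t_spec (o := ⟨731, by norm_num⟩) (le_refl _)).1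

theorem fix_w (k : RK) : C.L k • C.w = C.w ↔ k ∈ farW := C.fix_iff C.t_spec k

theorem adj_w (i : Fin 1755) : C.Γ.Adj C.w (C.pt i) ↔ hIn i = true := C.far_nbrs C.t_spec i

/-- The names of the points. -/
abbrev Name : Type := Option (Fin 1755 ⊕ RK)

/-- The point of a name. -/
noncomputable def ev : Name → Ω
  | none => C.a
  | some (Sum.inl i) => C.pt i
  | some (Sum.inr m) => C.L m • C.w

theorem ev_surjective : Function.Surjective C.ev := fun z => by
  by_cases h1 : z = C.a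
  · exact ⟨none, h1.symm⟩
  by_cases h2 : C.Γ.Adj C.a z
  · obtain ⟨i, hi⟩ := (C.adj_a z).1 h2
    exact ⟨some (Sum.inl i), hi⟩
  · obtain ⟨k, hk⟩ := C.far _ z C.w_far.1 C.w_far.2 h1 h2
    exact ⟨some (Sum.inr k), hk⟩

/-- The relation of names of equal points. -/
def Same : Name → Name → Prop
  | none, none => True
  | some (Sum.inl i), some (Sum.inl j) => i = j
  | some (Sum.inr m), some (Sum.inr n) => n⁻¹ * m ∈ farW
  | _, _ => False

theorem ev_eq_iff : ∀ x y : Name, C.ev x = C.ev y ↔ Same x y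
  | none, none => iff_of_true rfl trivial
  | none, some (Sum.inl i) => iff_of_false (fun e => C.pt_ne_a i e.symm) id
  | none, some (Sum.inr m) => iff_of_false (fun e => (C.far_L m C.w_far).1 e.symm) id
  | some (Sum.inl i), none => iff_of_false (fun e => C.pt_ne_a i e) id
  | some (Sum.inl i), some (Sum.inl j) => ⟨fun e => C.pt_inj e, fun e => congrArg C.pt e⟩
  | some (Sum.inl i), some (Sum.inr m) => iff_of_false (fun e => (C.far_L m C.w_far).2
      ((show C.pt i = C.L m • C.w from e) ▸ C.a_adj_pt i)) id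
  | some (Sum.inr m), none => iff_of_false (fun e => (C.far_L m C.w_far).1 e) id
  | some (Sum.inr m), some (Sum.inl i) => iff_of_false (fun e => (C.far_L m C.w_far).2
      ((show C.L m • C.w = C.pt i from e).symm ▸ C.a_adj_pt i)) id
  | some (Sum.inr m), some (Sum.inr n) => by
    show C.L m • C.w = C.L n • C.w ↔ n⁻¹ * m ∈ farW
    rw [← C.fix_w, map_mul, mul_smul, map_inv, inv_smul_eq_iff]

/-- The map between the points. -/
noncomputable def toPt (z : Ω) : Ω' := D.ev (Function.surjInv C.ev_surjective z)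

theorem toPt_ev (x : Name) : C.toPt D (C.ev x) = D.ev x := by
  rw [toPt, D.ev_eq_iff, ← C.ev_eq_iff, Function.surjInv_eq C.ev_surjective]

/-- The bijection between the points. -/
noncomputable def equivPt : Ω ≃ Ω' where
  toFun := C.toPt D
  invFun := D.toPt C
  left_inv z := by
    obtain ⟨x, rfl⟩ := C.ev_surjective z
    rw [C.toPt_ev, D.toPt_ev]
  right_inv z := by
    obtain ⟨x, rfl⟩ := D.ev_surjective z
    rw [D.toPt_ev, C.toPt_ev]

theorem equivPt_ev (x : Name) : C.equivPt D (C.ev x) = D.ev x := C.toPt_ev D x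

/-- The action on names. -/
noncomputable def actName (k : RK) : Name → Name
  | none => none
  | some (Sum.inl i) => some (Sum.inl (res k i))
  | some (Sum.inr m) => some (Sum.inr (k * m))

theorem ev_act (k : RK) : ∀ x : Name, C.ev (actName k x) = C.L k • C.ev x
  | none => (C.L_a k).symm
  | some (Sum.inl i) => (C.pt_smul k i).symm
  | some (Sum.inr m) => by
    show C.L (k * m) • C.w = C.L k • C.L m • C.w
    rw [map_mul, mul_smul]

theorem equivPt_L (k : RK) (z : Ω) : C.equivPt D (C.L k • z) = D.L k • C.equivPt D z := by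
  obtain ⟨x, rfl⟩ := C.ev_surjective z
  rw [← C.ev_act, C.equivPt_ev, C.equivPt_ev, D.ev_act]

/-- A far point adjacent to the neighbour `0` has a canonical form. -/
theorem exists_canon (n : RK) (h : C.Γ.Adj (C.L n • C.w) (C.pt p0)) :
    ∃ p q : stA, PN q = r0 * PN p * r0⁻¹ ∧ (q : RK)⁻¹ * n ∈ farW := by
  obtain ⟨o, ho, e⟩ := C.exists_outer C.t_spec (C.far_L n C.w_far) h
  obtain ⟨g, hg, eg⟩ := exists_of_root o
  have hr : subRoot o.1 = 731 := by
    unfold subRoot
    rw [blt_false (by omega), blt_false (by omega), blt_false (by omega), blt_false (by omega)]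
    rfl
  simp only [hr] at eg
  obtain ⟨q, -, hq⟩ := C.conj_swap C.t_spec ⟨g, hg⟩
  refine ⟨⟨g, hg⟩, q, hq, ?_⟩
  rw [← C.fix_w, map_mul, mul_smul, map_inv, inv_smul_eq_iff, ← e, ← eg]
  exact (C.tpt_eq C.t_spec ⟨g, hg⟩ q hq).symm

theorem canon_eq {n : RK} {p q : stA} (e : PN q = r0 * PN p * r0⁻¹)
    (h : (q : RK)⁻¹ * n ∈ farW) :
    C.L n • C.w = C.t • C.pt (res p.1 ⟨731, by norm_num⟩) := by
  rw [← C.tpt_eq C.t_spec p q e]
  rw [← C.fix_w, map_mul, mul_smul, map_inv, inv_smul_eq_iff] at h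
  exact h

theorem adj_far_iff (hc : CommonProp) (m n : RK) :
    C.Γ.Adj (C.L m • C.w) (C.L n • C.w) ↔ D.Γ.Adj (D.L m • D.w) (D.L n • D.w) := by
  obtain ⟨x, hx, hx'⟩ := hc (n⁻¹ * m)
  obtain ⟨g, hg⟩ := exists_kw_orbit (res m x)
  have move : ∀ {Ω'' : Type u} (E : Cand Ω'') (l : RK), hIn (res (l⁻¹ * m) x) = true →
      E.Γ.Adj (E.L (g⁻¹ * l) • E.w) (E.pt p0) := by
    intro Ω'' E l hl
    rw [← E.adj_w, ← E.inv (E.L l), E.pt_smul, ← Equiv.Perm.mul_apply, ← map_mul,
      mul_inv_cancel_left, ← hg, ← E.pt_smul] at hl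
    rw [map_mul, mul_smul, E.adj_act, ← map_inv, inv_inv]
    exact hl
  obtain ⟨p, q, e, h⟩ := C.exists_canon (g⁻¹ * m) (move C m (by rwa [inv_mul_cancel, map_one]))
  obtain ⟨p', q', e', h'⟩ := C.exists_canon (g⁻¹ * n) (move C n hx')
  have key : ∀ {Ω'' : Type u} (E : Cand Ω''), E.Γ.Adj (E.L m • E.w) (E.L n • E.w) ↔
      R (res p.1 ⟨731, by norm_num⟩) (res p'.1 ⟨731, by norm_num⟩) = true := by
    intro Ω'' E
    rw [← E.inv (E.L g⁻¹), ← mul_smul, ← map_mul, ← mul_smul, ← map_mul, E.canon_eq e h,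
      E.canon_eq e' h', E.inv, E.adj_pt]
  rw [key C]
  rw [← D.inv (D.L g⁻¹), ← mul_smul, ← map_mul, ← mul_smul, ← map_mul, D.canon_eq e h,
    D.canon_eq e' h', D.inv, D.adj_pt]

theorem equivPt_adj (hc : CommonProp) (z z' : Ω) :
    D.Γ.Adj (C.equivPt D z) (C.equivPt D z') ↔ C.Γ.Adj z z' := by
  obtain ⟨x, rfl⟩ := C.ev_surjective z
  obtain ⟨y, rfl⟩ := C.ev_surjective z'
  rw [C.equivPt_ev, C.equivPt_ev]
  have pw : ∀ m i, D.Γ.Adj (D.L m • D.w) (D.pt i) ↔ C.Γ.Adj (C.L m • C.w) (C.pt i) := fun m i => by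
    rw [L_pt_adj, L_pt_adj, adj_w, adj_w]
  rcases x with _ | i | m <;> rcases y with _ | j | n <;> simp only [ev]
  · exact iff_of_false D.Γ.irrefl C.Γ.irrefl
  · exact iff_of_true (D.a_adj_pt j) (C.a_adj_pt j)
  · exact iff_of_false (D.far_L n D.w_far).2 (C.far_L n C.w_far).2
  · exact iff_of_true (D.a_adj_pt i).symm (C.a_adj_pt i).symm
  · rw [D.adj_pt, C.adj_pt]
  · rw [D.Γ.adj_comm, C.Γ.adj_comm, pw]
  · exact iff_of_false (fun e => (D.far_L m D.w_far).2 e.symm)
      fun e => (C.far_L m C.w_far).2 e.symm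
  · exact pw m j
  · exact (C.adj_far_iff D hc m n).symm

theorem far_ext {z z' : Ω} (hz : C.Far z) (hz' : C.Far z')
    (h : ∀ i, C.Γ.Adj z (C.pt i) ↔ C.Γ.Adj z' (C.pt i)) : z = z' := by
  obtain ⟨i, hi⟩ : {i | C.Γ.Adj z (C.pt i)}.Nonempty :=
    Set.nonempty_of_ncard_ne_zero (by rw [C.common z hz.1 hz.2]; norm_num)
  obtain ⟨g, hg⟩ := exists_kw_orbit i
  have hg' : res g⁻¹ i = p0 := by rw [← hg, map_inv]; exact perm_inv_apply _ _
  have a1 : C.Γ.Adj (C.L g⁻¹ • z) (C.pt p0) := by rw [← hg', L_pt_adj']; exact hi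
  have a2 : C.Γ.Adj (C.L g⁻¹ • z') (C.pt p0) := by rw [← hg', L_pt_adj']; exact (h i).1 hi
  obtain ⟨o, ho, e⟩ := C.exists_outer C.t_spec (C.far_L _ hz) a1
  obtain ⟨o', ho', e'⟩ := C.exists_outer C.t_spec (C.far_L _ hz') a2
  have : rowOf o = rowOf o' := rowOf_ext fun u hu => by
    refine Bool.eq_iff_iff.2 ?_
    rw [← C.swap_row C.t_spec ho ⟨u, hu⟩, ← C.swap_row C.t_spec ho' ⟨u, hu⟩, e, e', L_pt_adj,
      L_pt_adj]
    exact h _
  rw [outer_uniq ho ho' this, e] at e'
  exact MulAction.injective _ e'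

theorem equivPt_pt (i : Fin 1755) : C.equivPt D (C.pt i) = D.pt i :=
  C.equivPt_ev D (some (Sum.inl i))

theorem equivPt_a : C.equivPt D C.a = D.a := C.equivPt_ev D none

theorem equivPt_t_O (i : Fin 1755) : C.equivPt D (C.t • C.pt i) = D.t • D.pt i := by
  by_cases h0 : i.1 = 0
  · rw [show i = p0 from Fin.ext h0, C.t_spec.tp, D.t_spec.tp, equivPt_a]
  by_cases h1 : i.1 < 731
  · have e : i = (⟨(⟨i.1 - 1, by omega⟩ : Fin 730).1 + 1, by omega⟩ : Fin 1755) :=
      Fin.ext (by show i.1 = i.1 - 1 + 1; omega)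
    rw [e, C.t_spec.tn, D.t_spec.tn, equivPt_pt]
  obtain ⟨g, hg, eg⟩ := exists_of_root i
  have hr : subRoot i.1 = 731 := by
    unfold subRoot
    rw [blt_false (by omega), blt_false (by omega), blt_false (by omega), blt_false (by omega)]
    rfl
  simp only [hr] at eg
  obtain ⟨q, -, hq⟩ := C.conj_swap C.t_spec ⟨g, hg⟩
  rw [← eg, ← C.tpt_eq C.t_spec ⟨g, hg⟩ q hq, ← D.tpt_eq D.t_spec ⟨g, hg⟩ q hq]
  exact C.equivPt_ev D (some (Sum.inr q.1))

theorem equivPt_t (hc : CommonProp) (z : Ω) : C.equivPt D (C.t • z) = D.t • C.equivPt D z := by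
  by_cases h1 : z = C.a
  · rw [h1, C.t_spec.ta, equivPt_a, D.t_spec.ta, equivPt_pt]
  by_cases h2 : C.Γ.Adj C.a z
  · obtain ⟨i, rfl⟩ := (C.adj_a z).1 h2
    rw [equivPt_t_O, equivPt_pt]
  obtain ⟨y, hy⟩ : ∃ y, D.t⁻¹ • C.equivPt D (C.t • z) = y := ⟨_, rfl⟩
  have ey : D.t • y = C.equivPt D (C.t • z) := by rw [← hy, smul_inv_smul]
  have hadj : ∀ x : Ω, C.equivPt D (C.t • x) = D.t • C.equivPt D x →
      (D.Γ.Adj y (C.equivPt D x) ↔ D.Γ.Adj (C.equivPt D z) (C.equivPt D x)) := by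
    intro x hx
    rw [← D.inv D.t, ey, ← hx, equivPt_adj C D hc, C.inv, equivPt_adj C D hc]
  have hta : C.equivPt D (C.t • C.a) = D.t • C.equivPt D C.a := by
    rw [C.t_spec.ta, equivPt_a, D.t_spec.ta, equivPt_pt]
  have htp : ∀ i, C.equivPt D (C.t • C.pt i) = D.t • C.equivPt D (C.pt i) := fun i => by
    rw [equivPt_t_O, equivPt_pt]
  have hzfar : D.Far (C.equivPt D z) := by
    refine ⟨fun e => h1 ?_, fun e => h2 ?_⟩
    · rw [← C.equivPt_a D] at e
      exact (C.equivPt D).injective e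
    · rw [← C.equivPt_a D, equivPt_adj C D hc] at e
      exact e
  have hyfar : D.Far y := by
    refine ⟨fun e => h1 ?_, fun e => hzfar.2 ?_⟩
    · rw [e, ← C.equivPt_a D, ← hta] at ey
      exact (MulAction.injective C.t ((C.equivPt D).injective ey)).symm
    · have := (hadj C.a hta).1 (by rw [equivPt_a]; exact e.symm)
      rw [equivPt_a] at this
      exact this.symm
  rw [← ey, ← D.far_ext hzfar hyfar fun i => ?_]
  rw [← C.equivPt_pt D i]
  exact (hadj _ (htp i)).symm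

theorem card_G [Finite Ω] : Nat.card C.G = Nat.card Ω * Nat.card RK := by
  rw [← card_orbit_mul (G := C.G) (a := C.a) C.trans]
  congr 1
  refine (Nat.card_eq_of_bijective (fun k => (⟨C.L k, C.L_a k⟩ : MulAction.stabilizer C.G C.a))
    ⟨fun k l e => C.L_inj (congrArg Subtype.val e), fun g => ?_⟩).symm
  obtain ⟨k, hk⟩ := C.L_surj g.1 g.2
  exact ⟨k, Subtype.ext hk⟩

/-- Two groups with the local structure are isomorphic. -/
theorem nonempty_mulEquiv [Finite Ω] (hc : CommonProp) : Nonempty (C.G ≃* D.G) := by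
  classical
  have : Finite Ω' := Finite.of_equiv Ω (C.equivPt D)
  set φ : Equiv.Perm Ω ≃* Equiv.Perm Ω' := (C.equivPt D).permCongrHom with hφ
  have happ : ∀ (g : Equiv.Perm Ω) (z : Ω), φ g (C.equivPt D z) = C.equivPt D (g z) := by
    intro g z
    show C.equivPt D (g ((C.equivPt D).symm (C.equivPt D z))) = _
    rw [Equiv.symm_apply_apply]
  set M : Subgroup (Equiv.Perm Ω') := C.G.map φ.toMonoidHom with hM
  have memM : ∀ (g : C.G) (g' : D.G), (∀ z, C.equivPt D (g • z) = g' • C.equivPt D z) →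
      (g' : Equiv.Perm Ω') ∈ M := fun g g' h => ⟨g.1, g.2, Equiv.ext fun y => by
    obtain ⟨z, rfl⟩ := (C.equivPt D).surjective y
    exact (happ _ _).trans (h z)⟩
  have hL : ∀ k, (D.L k : Equiv.Perm Ω') ∈ M := fun k => memM _ _ (C.equivPt_L D k)
  have ht : (D.t : Equiv.Perm Ω') ∈ M := memM _ _ (C.equivPt_t D hc)
  have hle : D.G ≤ M := by
    intro g hg
    have reach : ∀ z : Ω', ∃ n : D.G, (n : Equiv.Perm Ω') ∈ M ∧ n • D.a = z := by
      have hO : ∀ i, ∃ n : D.G, (n : Equiv.Perm Ω') ∈ M ∧ n • D.a = D.pt i := fun i => by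
        obtain ⟨k, hk⟩ := exists_kw_orbit i
        exact ⟨D.L k * D.t, M.mul_mem (hL k) ht, by rw [mul_smul, D.t_spec.ta, D.pt_smul, hk]⟩
      intro z
      obtain ⟨x, rfl⟩ := D.ev_surjective z
      rcases x with _ | i | m
      · exact ⟨1, M.one_mem, one_smul _ _⟩
      · exact hO i
      · obtain ⟨n, hn, en⟩ := hO ⟨731, by norm_num⟩
        refine ⟨D.L m * (D.t * n), M.mul_mem (hL m) (M.mul_mem ht hn), ?_⟩
        rw [mul_smul, mul_smul, en]
        rfl
    obtain ⟨n, hn, en⟩ := reach ((⟨g, hg⟩ : D.G) • D.a)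
    obtain ⟨k, hk⟩ := D.L_surj (n⁻¹ * ⟨g, hg⟩) (by rw [mul_smul, inv_smul_eq_iff, en])
    rw [show g = (n : Equiv.Perm Ω') * (D.L k : Equiv.Perm Ω') from by
      rw [hk]
      show g = _ * ((n : Equiv.Perm Ω')⁻¹ * g)
      rw [mul_inv_cancel_left]]
    exact M.mul_mem hn (hL k)
  have hcard : Nat.card M = Nat.card D.G := by
    rw [hM, Subgroup.card_map_of_injective φ.injective, C.card_G, D.card_G,
      Nat.card_congr (C.equivPt D)]
  exact ⟨(φ.subgroupMap C.G).trans
    (MulEquiv.subgroupCongr (Subgroup.eq_of_le_of_card_ge hle hcard.le).symm)⟩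

end Cand

end CfsgLib.RuRec
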